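import Cfsg.Agent.SporRec.LyG2.Simple
import Cfsg.Agent.Ly.Rep111

/-!
The subgroup `⟨a, b, c, d⟩` of the presented Lyons group is isomorphic to `P44 ≃ M7 ≃ G₂(5)`: it is simple of order
`5859000000`.
-/

set_option autoImplicit false

namespace Cfsg.Agent.SporRec.LyG2.LyEmb

open Cfsg.Spor
open Cfsg.Agent.SporRec.LyG2.Rel Cfsg.Agent.SporRec.LyG2.Pres Cfsg.Agent.SporRec.LyG2.Hom

/-- The subgroup generated by the images of `a, b, c, d`, as in the statements. -/
abbrev H : Subgroup Ly :=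
  (Subgroup.closure ({Ly.a, Ly.b, Ly.c, Ly.d} : Set (FreeGroup Ly.Gen))).map
    (PresentedGroup.mk (coxRelators Ly.edges ∪ {r | r ∈ Ly.extra}))

/-- The homomorphism `P44 → Ly`. -/
def η : P44 →* Ly := hom rel44_ly.holds

theorem η_pg (i : Fin 9) :
    η (pg i) = ![lg .a, lg .b, lg .c, lg .d, lg .e, lg .c2, lg .c3, lg .c4, lg .c5] i :=
  hom_pg rel44_ly.holds i

theorem Y_pg : Simple.Y 0 = pg 0 ∧ Simple.Y 2 = pg 1 ∧ Simple.Y 4 = pg 2 ∧ Simple.Y 6 = pg 3 := by
  refine ⟨?_, ?_, ?_, ?_⟩ <;> apply M7.φ_injective <;> rw [Simple.φ_Y]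
  · exact (hom_pg M7.holds_X 0).symm
  · exact (hom_pg M7.holds_X 1).symm
  · exact (hom_pg M7.holds_X 2).symm
  · exact (hom_pg M7.holds_X 3).symm

/-- `P44` is generated by `a, b, c, d`. -/
theorem closure_four : Subgroup.closure ({pg 0, pg 1, pg 2, pg 3} : Set P44) = ⊤ := by
  obtain ⟨h0, h1, h2, h3⟩ := Y_pg
  apply Simple.eq_top_of_mem
  · rw [h0]; exact Subgroup.subset_closure (by simp)
  · rw [h1]; exact Subgroup.subset_closure (by simp)
  · rw [h2]; exact Subgroup.subset_closure (by simp)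
  · rw [h3]; exact Subgroup.subset_closure (by simp)

theorem η_range : η.range = H := by
  rw [MonoidHom.range_eq_map, ← closure_four, MonoidHom.map_closure]
  unfold H
  rw [MonoidHom.map_closure]
  congr 1
  rw [Set.image_insert_eq, Set.image_insert_eq, Set.image_insert_eq, Set.image_singleton,
    Set.image_insert_eq, Set.image_insert_eq, Set.image_insert_eq, Set.image_singleton,
    η_pg, η_pg, η_pg, η_pg]
  rfl

theorem gl0_ne_one : Cfsg.Agent.Ly.Rep111.gl 0 ≠ 1 := by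
  intro h
  have h1 : Cfsg.Agent.Lib.PackMat.mat Cfsg.Agent.Ly.Data111.C (Cfsg.Agent.Ly.Data111.code (0, true))
      ⟨0, by decide⟩ ⟨1, by decide⟩ ≠ 0 := by
    rw [Cfsg.Agent.Lib.PackMat.mat_def]
    decide +kernel
  apply h1
  have h2 := congrArg (fun g : GL (Fin 111) (ZMod 5) => (g : Matrix (Fin 111) (Fin 111) (ZMod 5)) 0 1) h
  refine Eq.trans h2 ?_
  rw [Units.val_one]
  exact Matrix.one_apply_ne (by decide)

theorem lg_a_ne_one : lg Ly.Gen.a ≠ 1 := by
  intro h
  apply gl0_ne_one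
  rw [← Cfsg.Agent.Ly.Rep111.rho_gens 0]
  have : Cfsg.Agent.Ly.Pres.gens 0 = lg Ly.Gen.a := rfl
  rw [this, h, map_one]

theorem η_injective : Function.Injective η := by
  have hs := Simple.isSimpleGroup_P44
  rw [← MonoidHom.ker_eq_bot_iff]
  rcases hs.eq_bot_or_eq_top_of_normal η.ker inferInstance with h | h
  · exact h
  · exfalso
    apply lg_a_ne_one
    have h2 : pg 0 ∈ η.ker := by rw [h]; trivial
    have h3 : η (pg 0) = 1 := h2
    rw [← h3, η_pg]
    rfl

/-- `G₂(5) ≃ ⟨a, b, c, d⟩`. -/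
noncomputable def equivH : P44 ≃* H :=
  (MonoidHom.ofInjective η_injective).trans (MulEquiv.subgroupCongr η_range)

theorem card_H : Nat.card H = 5859000000 := by
  rw [← Nat.card_congr equivH.toEquiv, M7.card_P44]

theorem isSimpleGroup_H : IsSimpleGroup H := by
  have := Simple.isSimpleGroup_P44
  exact MulEquiv.isSimpleGroup equivH.symm

end Cfsg.Agent.SporRec.LyG2.LyEmb
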