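import Cfsg.Agent.SporRec.LyG2.M7
import Cfsg.Prelude.Def_Spor_Ly

/-!
Interface: the group `M7 ≤ GL₇(5)` is presented by the relations 1–44; hence a homomorphism from `M7` to any group
containing elements satisfying them, in particular to the presented Lyons group.
-/

set_option autoImplicit false
set_option linter.unusedSimpArgs false

namespace Cfsg.Agent.SporRec.LyG2.Hom

open Cfsg.Agent.SporRec.LyG2.Rel Cfsg.Agent.SporRec.LyG2.Pres Cfsg.Agent.SporRec.LyG2.M7

/-- The four matrices `a, b, c, d`. -/
def gen7 : Fin 4 → GL7 := ![X 0, X 2, X 4, X 6]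

theorem closure_gen7 : Subgroup.closure (Set.range gen7) = M7 := by
  unfold M7
  congr 1
  ext x
  simp only [Set.mem_range, Set.mem_insert_iff, Set.mem_singleton_iff]
  constructor
  · rintro ⟨i, rfl⟩
    fin_cases i
    · exact Or.inl rfl
    · exact Or.inr (Or.inl rfl)
    · exact Or.inr (Or.inr (Or.inl rfl))
    · exact Or.inr (Or.inr (Or.inr rfl))
  · rintro (rfl | rfl | rfl | rfl)
    · exact ⟨0, rfl⟩
    · exact ⟨1, rfl⟩
    · exact ⟨2, rfl⟩
    · exact ⟨3, rfl⟩

/-- `P44 ≃ M7` -/
noncomputable def equiv : P44 ≃* M7 :=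
  (MonoidHom.ofInjective φ_injective).trans (MulEquiv.subgroupCongr φ_range)

theorem equiv_apply (x : P44) : ((equiv x : M7) : GL7) = φ x := rfl

/-- the generators `a, b, c, d` in `P44` -/
def pg4 : Fin 4 → P44 := ![pg 0, pg 1, pg 2, pg 3]

theorem φ_pg4 (i : Fin 4) : φ (pg4 i) = gen7 i := by
  fin_cases i
  · exact hom_pg holds_X 0
  · exact hom_pg holds_X 1
  · exact hom_pg holds_X 2
  · exact hom_pg holds_X 3

variable {G : Type*} [Group G] {a b c d e c1 c2 c3 c4 c5 : G}

theorem hom_pg4 (h : Holds a b c d e c2 c3 c4 c5) (i : Fin 4) : hom h (pg4 i) = ![a, b, c, d] i := by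
  fin_cases i
  · exact hom_pg h 0
  · exact hom_pg h 1
  · exact hom_pg h 2
  · exact hom_pg h 3

theorem lift_comp {A B : Type*} [Group A] [Group B] (f : A →* B) (u : Fin 4 → A) (v : Fin 4 → B)
    (h : ∀ i, f (u i) = v i) (w : FreeGroup (Fin 4)) : f (FreeGroup.lift u w) = FreeGroup.lift v w := by
  have : f.comp (FreeGroup.lift u) = FreeGroup.lift v := by
    ext i
    simp [h i]
  exact DFunLike.congr_fun this w

/-- Words with equal `7 × 7` matrices have equal values in every group satisfying the relations 1–44. -/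
theorem eq_of_mat (h : Rel44 a b c d e c1 c2 c3 c4 c5) (w w' : FreeGroup (Fin 4))
    (hw : FreeGroup.lift gen7 w = FreeGroup.lift gen7 w') :
    FreeGroup.lift ![a, b, c, d] w = FreeGroup.lift ![a, b, c, d] w' := by
  rw [← lift_comp (hom h.holds) pg4 _ (hom_pg4 h.holds) w, ← lift_comp (hom h.holds) pg4 _ (hom_pg4 h.holds) w']
  congr 1
  apply φ_injective
  rw [lift_comp φ pg4 _ φ_pg4 w, lift_comp φ pg4 _ φ_pg4 w', hw]

/-- The homomorphism from the matrix group. -/
noncomputable def psi (h : Rel44 a b c d e c1 c2 c3 c4 c5) : M7 →* G :=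
  (hom h.holds).comp equiv.symm.toMonoidHom

theorem psi_gen7 (h : Rel44 a b c d e c1 c2 c3 c4 c5) (i : Fin 4) (hi : gen7 i ∈ M7) :
    psi h ⟨gen7 i, hi⟩ = ![a, b, c, d] i := by
  rw [← hom_pg4 h.holds i]
  have h1 : equiv (pg4 i) = ⟨gen7 i, hi⟩ := Subtype.ext (φ_pg4 i)
  unfold psi
  rw [MonoidHom.comp_apply]
  congr 1
  rw [← h1]
  exact equiv.symm_apply_apply _

theorem lift_mem (w : FreeGroup (Fin 4)) : FreeGroup.lift gen7 w ∈ M7 := by
  have : FreeGroup.lift gen7 w ∈ (FreeGroup.lift gen7).range := ⟨w, rfl⟩
  rw [FreeGroup.range_lift_eq_closure] at this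
  rwa [closure_gen7] at this

theorem psi_lift (h : Rel44 a b c d e c1 c2 c3 c4 c5) (w : FreeGroup (Fin 4)) :
    psi h ⟨FreeGroup.lift gen7 w, lift_mem w⟩ = FreeGroup.lift ![a, b, c, d] w := by
  rw [← lift_comp (hom h.holds) pg4 _ (hom_pg4 h.holds) w]
  have h1 : equiv (FreeGroup.lift pg4 w) = ⟨FreeGroup.lift gen7 w, lift_mem w⟩ :=
    Subtype.ext (lift_comp φ pg4 _ φ_pg4 w)
  unfold psi
  rw [MonoidHom.comp_apply]
  congr 1
  rw [← h1]
  exact equiv.symm_apply_apply _

/-! ### The presented Lyons group -/

open Cfsg.Spor in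
/-- generator of the presented Lyons group -/
def lg (x : Ly.Gen) : Ly := PresentedGroup.of x

open Cfsg.Spor in
theorem ly_rel (k : ℕ) (r : FreeGroup Ly.Gen) (h : Ly.extra[k]? = some r) :
    PresentedGroup.mk (coxRelators Ly.edges ∪ {r | r ∈ Ly.extra}) r = 1 :=
  PresentedGroup.one_of_mem (Or.inr (List.mem_of_getElem? h))

open Cfsg.Spor in
theorem rel44_ly : Rel44 (lg .a) (lg .b) (lg .c) (lg .d) (lg .e) (lg .c1) (lg .c2) (lg .c3) (lg .c4) (lg .c5) where
  r1 := by
    have t := ly_rel 0 _ rfl
    simp only [map_mul, map_inv, map_pow] at t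
    exact t
  r2 := by
    have t := ly_rel 1 _ rfl
    simp only [map_mul, map_inv, map_pow] at t
    exact t
  r3 := by
    have t := ly_rel 2 _ rfl
    simp only [map_mul, map_inv, map_pow] at t
    exact t
  r4 := by
    have t := ly_rel 3 _ rfl
    simp only [map_mul, map_inv, map_pow] at t
    exact t
  r5 := by
    have t := ly_rel 4 _ rfl
    simp only [map_mul, map_inv, map_pow] at t
    exact t
  r6 := by
    have t := ly_rel 5 _ rfl
    simp only [map_mul, map_inv, map_pow] at t
    exact t
  r7 := by
    have t := ly_rel 6 _ rfl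
    simp only [map_mul, map_inv, map_pow] at t
    exact t
  r8 := by
    have t := ly_rel 7 _ rfl
    simp only [map_mul, map_inv, map_pow] at t
    exact t
  r9 := by
    have t := ly_rel 8 _ rfl
    simp only [map_mul, map_inv, map_pow] at t
    exact t
  r10 := by
    have t := ly_rel 9 _ rfl
    simp only [map_mul, map_inv, map_pow] at t
    exact t
  r11 := by
    have t := ly_rel 10 _ rfl
    simp only [map_mul, map_inv, map_pow] at t
    exact t
  r12 := by
    have t := ly_rel 11 _ rfl
    simp only [map_mul, map_inv, map_pow] at t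
    exact t
  r13 := by
    have t := ly_rel 12 _ rfl
    simp only [map_mul, map_inv, map_pow] at t
    exact t
  r14 := by
    have t := ly_rel 13 _ rfl
    simp only [map_mul, map_inv, map_pow] at t
    exact t
  r15 := by
    have t := ly_rel 14 _ rfl
    simp only [map_mul, map_inv, map_pow] at t
    exact t
  r16 := by
    have t := ly_rel 15 _ rfl
    simp only [map_mul, map_inv, map_pow] at t
    exact t
  r17 := by
    have t := ly_rel 16 _ rfl
    simp only [map_mul, map_inv, map_pow] at t
    exact t
  r18 := by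
    have t := ly_rel 17 _ rfl
    simp only [map_mul, map_inv, map_pow] at t
    exact t
  r19 := by
    have t := ly_rel 18 _ rfl
    simp only [map_mul, map_inv, map_pow] at t
    exact t
  r20 := by
    have t := ly_rel 19 _ rfl
    simp only [map_mul, map_inv, map_pow] at t
    exact t
  r21 := by
    have t := ly_rel 20 _ rfl
    simp only [map_mul, map_inv, map_pow] at t
    exact t
  r22 := by
    have t := ly_rel 21 _ rfl
    simp only [map_mul, map_inv, map_pow] at t
    exact t
  r23 := by
    have t := ly_rel 22 _ rfl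
    simp only [map_mul, map_inv, map_pow] at t
    exact t
  r24 := by
    have t := ly_rel 23 _ rfl
    simp only [map_mul, map_inv, map_pow] at t
    exact t
  r25 := by
    have t := ly_rel 24 _ rfl
    simp only [map_mul, map_inv, map_pow] at t
    exact t
  r26 := by
    have t := ly_rel 25 _ rfl
    simp only [map_mul, map_inv, map_pow] at t
    exact t
  r27 := by
    have t := ly_rel 26 _ rfl
    simp only [map_mul, map_inv, map_pow] at t
    exact t
  r28 := by
    have t := ly_rel 27 _ rfl
    simp only [map_mul, map_inv, map_pow] at t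
    exact t
  r29 := by
    have t := ly_rel 28 _ rfl
    simp only [map_mul, map_inv, map_pow] at t
    exact t
  r30 := by
    have t := ly_rel 29 _ rfl
    simp only [map_mul, map_inv, map_pow] at t
    exact t
  r31 := by
    have t := ly_rel 30 _ rfl
    simp only [map_mul, map_inv, map_pow] at t
    exact t
  r32 := by
    have t := ly_rel 31 _ rfl
    simp only [map_mul, map_inv, map_pow] at t
    exact t
  r33 := by
    have t := ly_rel 32 _ rfl
    simp only [map_mul, map_inv, map_pow] at t
    exact t
  r34 := by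
    have t := ly_rel 33 _ rfl
    simp only [map_mul, map_inv, map_pow] at t
    exact t
  r35 := by
    have t := ly_rel 34 _ rfl
    simp only [map_mul, map_inv, map_pow] at t
    exact t
  r36 := by
    have t := ly_rel 35 _ rfl
    simp only [map_mul, map_inv, map_pow] at t
    exact t
  r37 := by
    have t := ly_rel 36 _ rfl
    simp only [map_mul, map_inv, map_pow] at t
    exact t
  r38 := by
    have t := ly_rel 37 _ rfl
    simp only [map_mul, map_inv, map_pow] at t
    exact t
  r39 := by
    have t := ly_rel 38 _ rfl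
    simp only [map_mul, map_inv, map_pow] at t
    exact t
  r40 := by
    have t := ly_rel 39 _ rfl
    simp only [map_mul, map_inv, map_pow] at t
    exact t
  r41 := by
    have t := ly_rel 40 _ rfl
    simp only [map_mul, map_inv, map_pow] at t
    exact t
  r42 := by
    have t := ly_rel 41 _ rfl
    simp only [map_mul, map_inv, map_pow] at t
    exact t
  r43 := by
    have t := ly_rel 42 _ rfl
    simp only [map_mul, map_inv, map_pow] at t
    exact t
  r44 := by
    have t := ly_rel 43 _ rfl
    simp only [map_mul, map_inv, map_pow] at t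
    exact t

end Cfsg.Agent.SporRec.LyG2.Hom
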