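import Cfsg.Agent.SporRec.LyG2.Rel
import Cfsg.Agent.SporRec.LyG2.T1All
import Cfsg.Agent.SporRec.LyG2.T2All
import Cfsg.Agent.SporRec.LyG2.T3All

/-!
A group generated by elements satisfying the relations 1–44 of the presentation of the Lyons group has at most
`5859000000 = 3906 · 3125 · 60 · 8` elements.
-/

set_option autoImplicit false

namespace Cfsg.Agent.SporRec.LyG2.Bound

open Cfsg.Agent.SporadicRecognition.CosetCert Cfsg.Agent.SporadicRecognition.CosetCertHyp
open Cfsg.Agent.SporRec.LyG2.Rel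

variable {G : Type*} [Group G]

theorem ev_map (g g' : ℕ → G) (m : ℕ → ℕ) (h : ∀ x, g' x = g (m x)) (w : List ℕ) :
    ev g' w = ev g (w.map m) := by
  induction w with
  | nil => rfl
  | cons x w ih => rw [ev_cons, List.map_cons, ev_cons, ih, h]

/-- letters of `T2` -/
def col2 (a b c c2 c3 c4 c5 : G) : ℕ → G := fun n =>
  [a, a⁻¹, b, b⁻¹, c, c⁻¹, c2, c2⁻¹, c3, c3⁻¹, c4, c4⁻¹, c5, c5⁻¹].getD n 1

/-- letters of `T3` -/
def col3 (a b : G) : ℕ → G := fun n => [a, a⁻¹, b, b⁻¹].getD n 1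

def m2 : ℕ → ℕ := fun n => [11, 12, 9, 10, 13, 14, 6, 7, 2, 3, 0, 1, 4, 5].getD n 17

def m3 : ℕ → ℕ := fun n => [11, 12, 9, 10].getD n 17

theorem col2_eq (a b c d e c2 c3 c4 c5 : G) (x : ℕ) :
    col2 a b c c2 c3 c4 c5 x = col1 a b c d e c2 c3 c4 c5 (m2 x) := by
  unfold col2 m2 col1
  rcases x with _ | _ | _ | _ | _ | _ | _ | _ | _ | _ | _ | _ | _ | _ | x <;> rfl

theorem col3_eq (a b c d e c2 c3 c4 c5 : G) (x : ℕ) :
    col3 a b x = col1 a b c d e c2 c3 c4 c5 (m3 x) := by
  unfold col3 m3 col1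
  rcases x with _ | _ | _ | _ | x <;> rfl

theorem rels2_sub : ∀ r ∈ T2Data.rels, r.map m2 ∈ T1Data.rels := by decide +kernel

theorem rels3_sub : ∀ r ∈ T3Data.rels, r.map m3 ∈ T1Data.rels := by decide +kernel

variable {a b c d e c2 c3 c4 c5 : G}

/-- the subgroup generated by the letters of `T1` -/
def K1 (a b c d e c2 c3 c4 c5 : G) : Subgroup G :=
  Subgroup.closure (col1 a b c d e c2 c3 c4 c5 '' {x | x < T1Data.C.k})

def K2 (a b c c2 c3 c4 c5 : G) : Subgroup G :=
  Subgroup.closure (col2 a b c c2 c3 c4 c5 '' {x | x < T2Data.C.k})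

def K3 (a b : G) : Subgroup G := Subgroup.closure (col3 a b '' {x | x < T3Data.C.k})

theorem hyp3 (h : Holds a b c d e c2 c3 c4 c5) :
    Hyp T3Data.C (Subgroup.zpowers a) (col3 a b) := by
  refine hyp_of_checks _ _ T3Data.C T3Data.rels T3Data.subw rfl ?_ ?_ ?_ (by decide +kernel)
  · intro x hx
    have hx' : x < 4 := hx
    interval_cases x <;> refine ⟨by decide +kernel, ?_⟩
    · exact mul_inv_cancel a
    · exact inv_mul_cancel a
    · exact mul_inv_cancel b
    · exact inv_mul_cancel b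
  · intro r hr
    rw [ev_map _ _ m3 (col3_eq a b c d e c2 c3 c4 c5)]
    exact h.rel _ (rels3_sub r hr)
  · intro s hs
    have : s = [0] := by simpa [T3Data.subw] using hs
    subst this
    have : ev (col3 a b) [0] = a := by simp [ev, col3]
    rw [this]
    exact Subgroup.mem_zpowers a

theorem hyp2 (h : Holds a b c d e c2 c3 c4 c5) :
    Hyp T2Data.C (K3 a b) (col2 a b c c2 c3 c4 c5) := by
  refine hyp_of_checks _ _ T2Data.C T2Data.rels T2Data.subw rfl ?_ ?_ ?_ (by decide +kernel)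
  · intro x hx
    have hx' : x < 14 := hx
    interval_cases x <;> refine ⟨by decide +kernel, ?_⟩
    · exact mul_inv_cancel a
    · exact inv_mul_cancel a
    · exact mul_inv_cancel b
    · exact inv_mul_cancel b
    · exact mul_inv_cancel c
    · exact inv_mul_cancel c
    · exact mul_inv_cancel c2
    · exact inv_mul_cancel c2
    · exact mul_inv_cancel c3
    · exact inv_mul_cancel c3
    · exact mul_inv_cancel c4
    · exact inv_mul_cancel c4
    · exact mul_inv_cancel c5
    · exact inv_mul_cancel c5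
  · intro r hr
    rw [ev_map _ _ m2 (col2_eq a b c d e c2 c3 c4 c5)]
    exact h.rel _ (rels2_sub r hr)
  · intro s hs
    have hs' : s = [0] ∨ s = [2] := by simpa [T2Data.subw] using hs
    rcases hs' with rfl | rfl
    · have : ev (col2 a b c c2 c3 c4 c5) [0] = a := by simp [ev, col2]
      rw [this]
      exact Subgroup.subset_closure ⟨0, by decide, rfl⟩
    · have : ev (col2 a b c c2 c3 c4 c5) [2] = b := by simp [ev, col2]
      rw [this]
      exact Subgroup.subset_closure ⟨2, by decide, rfl⟩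

theorem hyp1 (h : Holds a b c d e c2 c3 c4 c5) :
    Hyp T1Data.C (K2 a b c c2 c3 c4 c5) (col1 a b c d e c2 c3 c4 c5) := by
  refine hyp_of_checks _ _ T1Data.C T1Data.rels T1Data.subw rfl ?_ h.rel ?_ (by decide +kernel)
  · intro x hx
    have hx' : x < 17 := hx
    interval_cases x <;> refine ⟨by decide +kernel, ?_⟩
    · exact mul_inv_cancel c4
    · exact inv_mul_cancel c4
    · exact mul_inv_cancel c3
    · exact inv_mul_cancel c3
    · exact mul_inv_cancel c5
    · exact inv_mul_cancel c5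
    · exact mul_inv_cancel c2
    · exact inv_mul_cancel c2
    · exact h.ee
    · exact mul_inv_cancel b
    · exact inv_mul_cancel b
    · exact mul_inv_cancel a
    · exact inv_mul_cancel a
    · exact mul_inv_cancel c
    · exact inv_mul_cancel c
    · exact mul_inv_cancel d
    · exact inv_mul_cancel d
  · intro s hs
    have key : ∀ x y : ℕ, y < T2Data.C.k → m2 y = x →
        ev (col1 a b c d e c2 c3 c4 c5) [x] ∈ K2 a b c c2 c3 c4 c5 := by
      intro x y hy hxy
      rw [ev_cons, ev_nil, mul_one, ← hxy, ← col2_eq]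
      exact Subgroup.subset_closure ⟨y, hy, rfl⟩
    have hs' : s = [11] ∨ s = [9] ∨ s = [13] ∨ s = [6] ∨ s = [2] ∨ s = [0] ∨ s = [4] := by
      simpa [T1Data.subw] using hs
    rcases hs' with rfl | rfl | rfl | rfl | rfl | rfl | rfl
    · exact key 11 0 (by decide) rfl
    · exact key 9 2 (by decide) rfl
    · exact key 13 4 (by decide) rfl
    · exact key 6 6 (by decide) rfl
    · exact key 2 8 (by decide) rfl
    · exact key 0 10 (by decide) rfl
    · exact key 4 12 (by decide) rfl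

theorem card_zpowers_le (h : Holds a b c d e c2 c3 c4 c5) :
    Finite (Subgroup.zpowers a) ∧ Nat.card (Subgroup.zpowers a) ≤ 8 := by
  have ha : a ^ 8 = 1 := by
    have := h.rel [11,11,11,11,11,11,11,11] (by decide)
    simpa [ev, col1, pow_succ, mul_assoc] using this
  have h8 : orderOf a ∣ 8 := orderOf_dvd_of_pow_eq_one ha
  have hpos : 0 < orderOf a := Nat.pos_of_dvd_of_pos h8 (by norm_num)
  have hf : IsOfFinOrder a := orderOf_pos_iff.mp hpos
  refine ⟨(finite_zpowers.mpr hf).to_subtype, ?_⟩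
  rw [Nat.card_zpowers]
  exact Nat.le_of_dvd (by norm_num) h8

/-- The upper bound. -/
theorem card_le (h : Holds a b c d e c2 c3 c4 c5) :
    Finite (K1 a b c d e c2 c3 c4 c5) ∧ Nat.card (K1 a b c d e c2 c3 c4 c5) ≤ 5859000000 := by
  obtain ⟨f0, k0⟩ := card_zpowers_le h
  obtain ⟨f3, k3⟩ := card_closure_le T3Data.C (Subgroup.zpowers a) (col3 a b) (hyp3 h) T3All.part
  have : Finite (K3 a b) := f3
  obtain ⟨f2, k2⟩ := card_closure_le T2Data.C (K3 a b) (col2 a b c c2 c3 c4 c5) (hyp2 h) T2All.part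
  have : Finite (K2 a b c c2 c3 c4 c5) := f2
  obtain ⟨f1, k1⟩ := card_closure_le T1Data.C (K2 a b c c2 c3 c4 c5) (col1 a b c d e c2 c3 c4 c5) (hyp1 h)
    T1All.part
  refine ⟨f1, ?_⟩
  change Nat.card (K1 a b c d e c2 c3 c4 c5) ≤ _ at k1
  change Nat.card (K2 a b c c2 c3 c4 c5) ≤ _ at k2
  change Nat.card (K3 a b) ≤ _ at k3
  calc Nat.card (K1 a b c d e c2 c3 c4 c5) ≤ 3906 * Nat.card (K2 a b c c2 c3 c4 c5) := k1
    _ ≤ 3906 * (3125 * Nat.card (K3 a b)) := Nat.mul_le_mul_left _ k2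
    _ ≤ 3906 * (3125 * (60 * Nat.card (Subgroup.zpowers a))) :=
        Nat.mul_le_mul_left _ (Nat.mul_le_mul_left _ k3)
    _ ≤ 3906 * (3125 * (60 * 8)) :=
        Nat.mul_le_mul_left _ (Nat.mul_le_mul_left _ (Nat.mul_le_mul_left _ k0))
    _ = 5859000000 := by norm_num

end Cfsg.Agent.SporRec.LyG2.Bound
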