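import Cfsg.Agent.SporRec.LyG2.Rel
import Cfsg.Agent.SporRec.LyG2.Bound
import Cfsg.Agent.SporRec.LyG2.T4Data

/-!
Relations 1–28 of the presentation of the Lyons group (the parabolic subgroup `⟨a, b, c⟩ = 5^(1+4) : GL₂(5)` of
`G₂(5)`), for elements of an arbitrary group (with `c1 = c`), and the relations linking them with a reflection `n` in
the long simple root (`n b n = c3`, `n a² n = v`, `T = ⟨a², v⟩` the torus).
-/

set_option autoImplicit false
set_option linter.unusedSimpArgs false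
set_option linter.dupNamespace false

namespace Cfsg.Agent.SporRec.LyG2.Rel28

open Cfsg.Agent.SporadicRecognition.CosetCert Cfsg.Agent.SporadicRecognition.CosetCertHyp
open Cfsg.Agent.SporRec.LyG2.Rel Cfsg.Agent.SporRec.LyG2.Bound

/-- The relations 1–28 of the presentation of the Lyons group (with `c1 = c`). -/
structure Rel28 {G : Type*} [Group G] (a b c c2 c3 c4 c5 : G) : Prop where
  r1 : a ^ 8 = 1
  r2 : b ^ 5 = 1
  r3 : (a * b) ^ 4 = 1
  r4 : (a ^ 2)⁻¹ * b⁻¹ * (a ^ 2) * b = 1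
  r5 : (a⁻¹ * b⁻¹ * a * b) ^ 3 = 1
  r7 : c2 * ((a⁻¹ * c * a)⁻¹) = 1
  r8 : c3 * ((b⁻¹ * c * b)⁻¹) = 1
  r9 : c4 * (((b⁻¹)⁻¹ * c * (b⁻¹))⁻¹) = 1
  r10 : c5 * ((c⁻¹ * c2⁻¹ * c * c2)⁻¹) = 1
  r11 : c ^ 5 = 1
  r12 : c5 ^ 5 = 1
  r13 : c⁻¹ * c5⁻¹ * c * c5 = 1
  r14 : c2⁻¹ * c5⁻¹ * c2 * c5 = 1
  r15 : c3⁻¹ * c5⁻¹ * c3 * c5 = 1
  r16 : c4⁻¹ * c5⁻¹ * c4 * c5 = 1
  r17 : (c⁻¹ * c3⁻¹ * c * c3) * (((c5 ^ 2)⁻¹)⁻¹) = 1
  r18 : (c⁻¹ * c4⁻¹ * c * c4) * ((c5 ^ 2)⁻¹) = 1
  r19 : (c2⁻¹ * c3⁻¹ * c2 * c3) * ((c5⁻¹)⁻¹) = 1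
  r20 : c2⁻¹ * c4⁻¹ * c2 * c4 = 1
  r21 : (c3⁻¹ * c4⁻¹ * c3 * c4) * ((c5⁻¹)⁻¹) = 1
  r22 : (a⁻¹ * c2 * a) * (((c ^ 2)⁻¹)⁻¹) = 1
  r23 : (a⁻¹ * c3 * a) * ((((c3 ^ 2)⁻¹) * c * c4)⁻¹) = 1
  r24 : (a⁻¹ * c4 * a) * ((c * (c2⁻¹) * (c3⁻¹) * c4 * c * c4)⁻¹) = 1
  r25 : (a⁻¹ * c5 * a) * ((c5 ^ 2)⁻¹) = 1
  r26 : (b⁻¹ * c2 * b) * ((c2 * c3 * (c4⁻¹) * (c⁻¹) * (c4⁻¹))⁻¹) = 1
  r27 : (b⁻¹ * c3 * b) * (((c ^ 2) * c4 * ((c3 ^ 2)⁻¹))⁻¹) = 1
  r28 : (b⁻¹ * c5 * b) * (c5⁻¹) = 1

theorem Rel28.map {G H : Type*} [Group G] [Group H] (φ : G →* H) {a b c c2 c3 c4 c5 : G}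
    (h : Rel28 a b c c2 c3 c4 c5) :
    Rel28 (φ a) (φ b) (φ c) (φ c2) (φ c3) (φ c4) (φ c5) := by
  constructor <;> simp only [← map_mul, ← map_inv, ← map_pow]
  all_goals first
    | rw [h.r1, map_one] | rw [h.r2, map_one] | rw [h.r3, map_one] | rw [h.r4, map_one] | rw [h.r5, map_one]
    | rw [h.r7, map_one] | rw [h.r8, map_one] | rw [h.r9, map_one] | rw [h.r10, map_one] | rw [h.r11, map_one]
    | rw [h.r12, map_one] | rw [h.r13, map_one] | rw [h.r14, map_one] | rw [h.r15, map_one] | rw [h.r16, map_one]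
    | rw [h.r17, map_one] | rw [h.r18, map_one] | rw [h.r19, map_one] | rw [h.r20, map_one] | rw [h.r21, map_one]
    | rw [h.r22, map_one] | rw [h.r23, map_one] | rw [h.r24, map_one] | rw [h.r25, map_one] | rw [h.r26, map_one]
    | rw [h.r27, map_one] | rw [h.r28, map_one]

theorem of_rel44 {G : Type*} [Group G] {a b c d e c1 c2 c3 c4 c5 : G}
    (h : Rel44 a b c d e c1 c2 c3 c4 c5) : Rel28 a b c c2 c3 c4 c5 := by
  obtain rfl := h.c1_eq
  exact ⟨h.r1, h.r2, h.r3, h.r4, h.r5, h.r7, h.r8, h.r9, h.r10, h.r11, h.r12, h.r13, h.r14, h.r15, h.r16, h.r17, h.r18, h.r19, h.r20, h.r21, h.r22, h.r23, h.r24, h.r25, h.r26, h.r27, h.r28⟩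

variable {G : Type*} [Group G] {a b c c2 c3 c4 c5 : G}

theorem Rel28.rels (h : Rel28 a b c c2 c3 c4 c5) :
    ∀ r ∈ T2Data.rels, ev (col2 a b c c2 c3 c4 c5) r = 1 := by
  unfold T2Data.rels
  simp only [List.forall_mem_cons, ev, col2, List.map_cons, List.map_nil, List.prod_cons, List.prod_nil,
    List.getD_cons_zero, List.getD_cons_succ]
  refine ⟨?_, ?_, ?_, ?_, ?_, ?_, ?_, ?_, ?_, ?_, ?_, ?_, ?_, ?_, ?_, ?_, ?_, ?_, ?_, ?_, ?_, ?_, ?_, ?_, ?_, ?_, ?_, by simp⟩
  · have k := h.r7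
    simp only [mul_one, one_mul, pow_succ, pow_zero, mul_inv_rev, inv_inv, mul_assoc, inv_mul_cancel_left,
      mul_inv_cancel_left] at k ⊢
    exact k
  · have k := h.r8
    simp only [mul_one, one_mul, pow_succ, pow_zero, mul_inv_rev, inv_inv, mul_assoc, inv_mul_cancel_left,
      mul_inv_cancel_left] at k ⊢
    exact k
  · have k := h.r9
    simp only [mul_one, one_mul, pow_succ, pow_zero, mul_inv_rev, inv_inv, mul_assoc, inv_mul_cancel_left,
      mul_inv_cancel_left] at k ⊢
    exact k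
  · have k := h.r13
    simp only [mul_one, one_mul, pow_succ, pow_zero, mul_inv_rev, inv_inv, mul_assoc, inv_mul_cancel_left,
      mul_inv_cancel_left] at k ⊢
    exact k
  · have k := h.r14
    simp only [mul_one, one_mul, pow_succ, pow_zero, mul_inv_rev, inv_inv, mul_assoc, inv_mul_cancel_left,
      mul_inv_cancel_left] at k ⊢
    exact k
  · have k := h.r15
    simp only [mul_one, one_mul, pow_succ, pow_zero, mul_inv_rev, inv_inv, mul_assoc, inv_mul_cancel_left,
      mul_inv_cancel_left] at k ⊢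
    exact k
  · have k := h.r16
    simp only [mul_one, one_mul, pow_succ, pow_zero, mul_inv_rev, inv_inv, mul_assoc, inv_mul_cancel_left,
      mul_inv_cancel_left] at k ⊢
    exact k
  · have k := h.r20
    simp only [mul_one, one_mul, pow_succ, pow_zero, mul_inv_rev, inv_inv, mul_assoc, inv_mul_cancel_left,
      mul_inv_cancel_left] at k ⊢
    exact k
  · have k := h.r28
    simp only [mul_one, one_mul, pow_succ, pow_zero, mul_inv_rev, inv_inv, mul_assoc, inv_mul_cancel_left,
      mul_inv_cancel_left] at k ⊢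
    exact k
  · have k := h.r2
    simp only [mul_one, one_mul, pow_succ, pow_zero, mul_inv_rev, inv_inv, mul_assoc, inv_mul_cancel_left,
      mul_inv_cancel_left] at k ⊢
    exact k
  · have k := h.r10
    simp only [mul_one, one_mul, pow_succ, pow_zero, mul_inv_rev, inv_inv, mul_assoc, inv_mul_cancel_left,
      mul_inv_cancel_left] at k ⊢
    exact k
  · have k := h.r11
    simp only [mul_one, one_mul, pow_succ, pow_zero, mul_inv_rev, inv_inv, mul_assoc, inv_mul_cancel_left,
      mul_inv_cancel_left] at k ⊢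
    exact k
  · have k := h.r12
    simp only [mul_one, one_mul, pow_succ, pow_zero, mul_inv_rev, inv_inv, mul_assoc, inv_mul_cancel_left,
      mul_inv_cancel_left] at k ⊢
    exact k
  · have k := h.r19
    simp only [mul_one, one_mul, pow_succ, pow_zero, mul_inv_rev, inv_inv, mul_assoc, inv_mul_cancel_left,
      mul_inv_cancel_left] at k ⊢
    exact k
  · have k := h.r21
    simp only [mul_one, one_mul, pow_succ, pow_zero, mul_inv_rev, inv_inv, mul_assoc, inv_mul_cancel_left,
      mul_inv_cancel_left] at k ⊢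
    exact k
  · have k := h.r22
    simp only [mul_one, one_mul, pow_succ, pow_zero, mul_inv_rev, inv_inv, mul_assoc, inv_mul_cancel_left,
      mul_inv_cancel_left] at k ⊢
    exact k
  · have k := h.r25
    simp only [mul_one, one_mul, pow_succ, pow_zero, mul_inv_rev, inv_inv, mul_assoc, inv_mul_cancel_left,
      mul_inv_cancel_left] at k ⊢
    exact k
  · have k := h.r4
    simp only [mul_one, one_mul, pow_succ, pow_zero, mul_inv_rev, inv_inv, mul_assoc, inv_mul_cancel_left,
      mul_inv_cancel_left] at k ⊢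
    exact k
  · have k := h.r17
    simp only [mul_one, one_mul, pow_succ, pow_zero, mul_inv_rev, inv_inv, mul_assoc, inv_mul_cancel_left,
      mul_inv_cancel_left] at k ⊢
    exact k
  · have k := h.r18
    simp only [mul_one, one_mul, pow_succ, pow_zero, mul_inv_rev, inv_inv, mul_assoc, inv_mul_cancel_left,
      mul_inv_cancel_left] at k ⊢
    exact k
  · have k := h.r23
    simp only [mul_one, one_mul, pow_succ, pow_zero, mul_inv_rev, inv_inv, mul_assoc, inv_mul_cancel_left,
      mul_inv_cancel_left] at k ⊢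
    exact k
  · have k := h.r1
    simp only [mul_one, one_mul, pow_succ, pow_zero, mul_inv_rev, inv_inv, mul_assoc, inv_mul_cancel_left,
      mul_inv_cancel_left] at k ⊢
    exact k
  · have k := h.r3
    simp only [mul_one, one_mul, pow_succ, pow_zero, mul_inv_rev, inv_inv, mul_assoc, inv_mul_cancel_left,
      mul_inv_cancel_left] at k ⊢
    exact k
  · have k := h.r26
    simp only [mul_one, one_mul, pow_succ, pow_zero, mul_inv_rev, inv_inv, mul_assoc, inv_mul_cancel_left,
      mul_inv_cancel_left] at k ⊢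
    exact k
  · have k := h.r27
    simp only [mul_one, one_mul, pow_succ, pow_zero, mul_inv_rev, inv_inv, mul_assoc, inv_mul_cancel_left,
      mul_inv_cancel_left] at k ⊢
    exact k
  · have k := h.r24
    simp only [mul_one, one_mul, pow_succ, pow_zero, mul_inv_rev, inv_inv, mul_assoc, inv_mul_cancel_left,
      mul_inv_cancel_left] at k ⊢
    exact k
  · have k := h.r5
    simp only [mul_one, one_mul, pow_succ, pow_zero, mul_inv_rev, inv_inv, mul_assoc, inv_mul_cancel_left,
      mul_inv_cancel_left] at k ⊢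
    exact k

/-- certificate words give the relations -/
theorem of_rels (h : ∀ r ∈ T2Data.rels, ev (col2 a b c c2 c3 c4 c5) r = 1) : Rel28 a b c c2 c3 c4 c5 := by
  unfold T2Data.rels at h
  simp only [List.forall_mem_cons, ev, col2, List.map_cons, List.map_nil, List.prod_cons, List.prod_nil,
    List.getD_cons_zero, List.getD_cons_succ] at h
  obtain ⟨k7, k8, k9, k13, k14, k15, k16, k20, k28, k2, k10, k11, k12, k19, k21, k22, k25, k4, k17, k18, k23, k1, k3, k26, k27, k24, k5, -⟩ := h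
  constructor
  · simp only [mul_one, one_mul, pow_succ, pow_zero, mul_inv_rev, inv_inv, mul_assoc, inv_mul_cancel_left,
      mul_inv_cancel_left] at k1 ⊢
    exact k1
  · simp only [mul_one, one_mul, pow_succ, pow_zero, mul_inv_rev, inv_inv, mul_assoc, inv_mul_cancel_left,
      mul_inv_cancel_left] at k2 ⊢
    exact k2
  · simp only [mul_one, one_mul, pow_succ, pow_zero, mul_inv_rev, inv_inv, mul_assoc, inv_mul_cancel_left,
      mul_inv_cancel_left] at k3 ⊢
    exact k3
  · simp only [mul_one, one_mul, pow_succ, pow_zero, mul_inv_rev, inv_inv, mul_assoc, inv_mul_cancel_left,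
      mul_inv_cancel_left] at k4 ⊢
    exact k4
  · simp only [mul_one, one_mul, pow_succ, pow_zero, mul_inv_rev, inv_inv, mul_assoc, inv_mul_cancel_left,
      mul_inv_cancel_left] at k5 ⊢
    exact k5
  · simp only [mul_one, one_mul, pow_succ, pow_zero, mul_inv_rev, inv_inv, mul_assoc, inv_mul_cancel_left,
      mul_inv_cancel_left] at k7 ⊢
    exact k7
  · simp only [mul_one, one_mul, pow_succ, pow_zero, mul_inv_rev, inv_inv, mul_assoc, inv_mul_cancel_left,
      mul_inv_cancel_left] at k8 ⊢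
    exact k8
  · simp only [mul_one, one_mul, pow_succ, pow_zero, mul_inv_rev, inv_inv, mul_assoc, inv_mul_cancel_left,
      mul_inv_cancel_left] at k9 ⊢
    exact k9
  · simp only [mul_one, one_mul, pow_succ, pow_zero, mul_inv_rev, inv_inv, mul_assoc, inv_mul_cancel_left,
      mul_inv_cancel_left] at k10 ⊢
    exact k10
  · simp only [mul_one, one_mul, pow_succ, pow_zero, mul_inv_rev, inv_inv, mul_assoc, inv_mul_cancel_left,
      mul_inv_cancel_left] at k11 ⊢
    exact k11
  · simp only [mul_one, one_mul, pow_succ, pow_zero, mul_inv_rev, inv_inv, mul_assoc, inv_mul_cancel_left,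
      mul_inv_cancel_left] at k12 ⊢
    exact k12
  · simp only [mul_one, one_mul, pow_succ, pow_zero, mul_inv_rev, inv_inv, mul_assoc, inv_mul_cancel_left,
      mul_inv_cancel_left] at k13 ⊢
    exact k13
  · simp only [mul_one, one_mul, pow_succ, pow_zero, mul_inv_rev, inv_inv, mul_assoc, inv_mul_cancel_left,
      mul_inv_cancel_left] at k14 ⊢
    exact k14
  · simp only [mul_one, one_mul, pow_succ, pow_zero, mul_inv_rev, inv_inv, mul_assoc, inv_mul_cancel_left,
      mul_inv_cancel_left] at k15 ⊢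
    exact k15
  · simp only [mul_one, one_mul, pow_succ, pow_zero, mul_inv_rev, inv_inv, mul_assoc, inv_mul_cancel_left,
      mul_inv_cancel_left] at k16 ⊢
    exact k16
  · simp only [mul_one, one_mul, pow_succ, pow_zero, mul_inv_rev, inv_inv, mul_assoc, inv_mul_cancel_left,
      mul_inv_cancel_left] at k17 ⊢
    exact k17
  · simp only [mul_one, one_mul, pow_succ, pow_zero, mul_inv_rev, inv_inv, mul_assoc, inv_mul_cancel_left,
      mul_inv_cancel_left] at k18 ⊢
    exact k18
  · simp only [mul_one, one_mul, pow_succ, pow_zero, mul_inv_rev, inv_inv, mul_assoc, inv_mul_cancel_left,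
      mul_inv_cancel_left] at k19 ⊢
    exact k19
  · simp only [mul_one, one_mul, pow_succ, pow_zero, mul_inv_rev, inv_inv, mul_assoc, inv_mul_cancel_left,
      mul_inv_cancel_left] at k20 ⊢
    exact k20
  · simp only [mul_one, one_mul, pow_succ, pow_zero, mul_inv_rev, inv_inv, mul_assoc, inv_mul_cancel_left,
      mul_inv_cancel_left] at k21 ⊢
    exact k21
  · simp only [mul_one, one_mul, pow_succ, pow_zero, mul_inv_rev, inv_inv, mul_assoc, inv_mul_cancel_left,
      mul_inv_cancel_left] at k22 ⊢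
    exact k22
  · simp only [mul_one, one_mul, pow_succ, pow_zero, mul_inv_rev, inv_inv, mul_assoc, inv_mul_cancel_left,
      mul_inv_cancel_left] at k23 ⊢
    exact k23
  · simp only [mul_one, one_mul, pow_succ, pow_zero, mul_inv_rev, inv_inv, mul_assoc, inv_mul_cancel_left,
      mul_inv_cancel_left] at k24 ⊢
    exact k24
  · simp only [mul_one, one_mul, pow_succ, pow_zero, mul_inv_rev, inv_inv, mul_assoc, inv_mul_cancel_left,
      mul_inv_cancel_left] at k25 ⊢
    exact k25
  · simp only [mul_one, one_mul, pow_succ, pow_zero, mul_inv_rev, inv_inv, mul_assoc, inv_mul_cancel_left,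
      mul_inv_cancel_left] at k26 ⊢
    exact k26
  · simp only [mul_one, one_mul, pow_succ, pow_zero, mul_inv_rev, inv_inv, mul_assoc, inv_mul_cancel_left,
      mul_inv_cancel_left] at k27 ⊢
    exact k27
  · simp only [mul_one, one_mul, pow_succ, pow_zero, mul_inv_rev, inv_inv, mul_assoc, inv_mul_cancel_left,
      mul_inv_cancel_left] at k28 ⊢
    exact k28

end Cfsg.Agent.SporRec.LyG2.Rel28
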