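import Cfsg.Prelude.Def_ChevG2
import Cfsg.Agent.SporRec.LyG2.G14Data
import Cfsg.Agent.SporRec.LyG2.Simple

/-!
`P44` (relations 1–44 of the presentation of the Lyons group) is isomorphic to the Chevalley group of type `G₂` over
the field with five elements.
-/

set_option autoImplicit false

namespace Cfsg.Agent.SporRec.LyG2.G14

open Cfsg.Lie
open Cfsg.Agent.Lib.PackMat
open Cfsg.Agent.SporadicRecognition.CosetCert (ev ev_nil ev_cons ev_append)
open Cfsg.Agent.SporRec.LyG2.G14Data Cfsg.Agent.SporRec.LyG2.Rel Cfsg.Agent.SporRec.LyG2.Pres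
open Cfsg.Agent.SporRec.LyG2.M7 (iv m1 iv_lt)

instance fact5 : Fact (Nat.Prime 5) := ⟨by norm_num⟩

/-- `GL₁₄(5)` -/
abbrev GL14 : Type := GL (Fin C14.n) (ZMod C14.p)

abbrev Mat14 : Type := Matrix (Fin C14.n) (Fin C14.n) (ZMod C14.p)

theorem one_lt_p : 1 < C14.p := by decide

theorem good14 : C14.good = true := by decide +kernel

/-- code of the letter `k` (the identity for `k ≥ 42`) -/
def cd (k : ℕ) : ℕ := L14.getD k ID14

theorem cd_big {k : ℕ} (h : 42 ≤ k) : cd k = ID14 := by
  unfold cd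
  exact List.getD_eq_default _ _ (by simpa [L14] using h)

theorem okcd (k : ℕ) : okG C14 (cd k) = true := by
  rcases Nat.lt_or_ge k 42 with h | h
  · have key : ∀ k < 42, okG C14 (cd k) = true := by decide +kernel
    exact key k h
  · rw [cd_big h]; decide +kernel

theorem check_inv : ∀ k < 42, checkScalar C14 [cd k, cd (iv k)] 1 0 14 = true := by decide +kernel

theorem iv_lt' : ∀ k < 42, iv k < 42 ∧ iv (iv k) = k := by decide +kernel

theorem mat_inv (k : ℕ) (h : k < 42) : mat C14 (cd k) * mat C14 (cd (iv k)) = 1 := by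
  have := prod_one_of_check (C := C14) good14 (w := [cd k, cd (iv k)]) one_lt_p (by
    intro g hg
    rcases List.mem_cons.mp hg with rfl | hg
    · exact okcd k
    · rw [List.mem_singleton] at hg
      subst hg
      exact okcd _) (check_inv k h)
  simpa using this

theorem mat_inv' (k : ℕ) (h : k < 42) : mat C14 (cd (iv k)) * mat C14 (cd k) = 1 := by
  have h1 := mat_inv (iv k) (iv_lt' k h).1
  rwa [(iv_lt' k h).2] at h1

theorem mat_ID : mat C14 ID14 = 1 := by
  have := prod_one_of_check (C := C14) good14 (w := [ID14]) one_lt_p (by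
    intro g hg
    rw [List.mem_singleton] at hg
    subst hg
    decide +kernel) (by decide +kernel)
  simpa using this

/-- the letter `k` as an element of `GL₁₄(5)` -/
def X (k : ℕ) : GL14 :=
  if h : k < 42 then ⟨mat C14 (cd k), mat C14 (cd (iv k)), mat_inv k h, mat_inv' k h⟩ else 1

theorem X_val (k : ℕ) : (X k : Mat14) = mat C14 (cd k) := by
  unfold X
  split_ifs with h
  · rfl
  · rw [cd_big (by omega), mat_ID]; rfl

theorem X_iv (k : ℕ) (h : k < 42) : X (iv k) = (X k)⁻¹ := by
  apply eq_inv_of_mul_eq_one_left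
  apply Units.ext
  rw [Units.val_mul, X_val, X_val, mat_inv' k h, Units.val_one]

theorem ev_val (w : List ℕ) : ((ev X w : GL14) : Mat14) = ((w.map cd).map (mat C14)).prod := by
  induction w with
  | nil => rw [ev_nil, List.map_nil, List.map_nil, List.prod_nil, Units.val_one]
  | cons x w ih =>
    rw [ev_cons, Units.val_mul, ih, X_val, List.map_cons, List.map_cons, List.prod_cons]

theorem ok_map (w : List ℕ) : ∀ g ∈ w.map cd, okG C14 g = true := by
  intro g hg
  obtain ⟨k, -, rfl⟩ := List.mem_map.mp hg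
  exact okcd k

theorem ev_eq (w w' : List ℕ) (h : checkEq C14 (w.map cd) (w'.map cd) 0 14 = true) : ev X w = ev X w' := by
  apply Units.ext
  rw [ev_val, ev_val]
  exact prod_eq_of_check good14 one_lt_p (ok_map w) (ok_map w') h

theorem ev_eq_one (w : List ℕ) (h : checkScalar C14 (w.map cd) 1 0 14 = true) : ev X w = 1 := by
  apply Units.ext
  rw [ev_val, prod_one_of_check good14 one_lt_p (ok_map w) h, Units.val_one]

theorem ev_eq_X (w : List ℕ) (k : ℕ) (h : checkEq C14 (w.map cd) ([k].map cd) 0 14 = true) : ev X w = X k := by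
  rw [ev_eq w [k] h, ev_cons, ev_nil, mul_one]

theorem X_big : X 46 = 1 := by
  unfold X
  rw [dif_neg (by norm_num)]

theorem col1_X (n : ℕ) : col1 (X 0) (X 2) (X 4) (X 6) (X 8) (X 10) (X 12) (X 14) (X 16) n = X (m1 n) := by
  have h : ∀ k, k < 42 → X (k ^^^ 1) = (X k)⁻¹ := X_iv
  unfold col1 m1
  rcases n with _ | _ | _ | _ | _ | _ | _ | _ | _ | _ | _ | _ | _ | _ | _ | _ | _ | n <;>
    simp only [List.getD_cons_zero, List.getD_cons_succ, List.getD_nil]
  · exact (h 14 (by norm_num)).symm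
  · exact (h 12 (by norm_num)).symm
  · exact (h 16 (by norm_num)).symm
  · exact (h 10 (by norm_num)).symm
  · exact (h 2 (by norm_num)).symm
  · exact (h 0 (by norm_num)).symm
  · exact (h 4 (by norm_num)).symm
  · exact (h 6 (by norm_num)).symm
  · exact X_big.symm

theorem check_rels : ∀ r ∈ T1Data.rels, checkScalar C14 ((r.map m1).map cd) 1 0 14 = true := by
  decide +kernel

/-- the matrices satisfy the relations 1–44 -/
theorem holds_X : Holds (X 0) (X 2) (X 4) (X 6) (X 8) (X 10) (X 12) (X 14) (X 16) := by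
  constructor
  · intro r hr
    rw [Bound.ev_map X _ m1 col1_X]
    exact ev_eq_one _ (check_rels r hr)
  · have := ev_eq_one [8, 8] (by decide +kernel)
    simpa [ev] using this

theorem mem_of_word {S : Subgroup GL14} {w : List ℕ} (h : ∀ k ∈ w, X k ∈ S) : ev X w ∈ S := by
  induction w with
  | nil => rw [ev_nil]; exact S.one_mem
  | cons x w ih =>
    rw [ev_cons]
    exact S.mul_mem (h x List.mem_cons_self) (ih fun k hk => h k (List.mem_cons_of_mem _ hk))

theorem iv_mem {S : Subgroup GL14} {k : ℕ} (hk : k < 42) (h : X k ∈ S) : X (iv k) ∈ S := by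
  rw [X_iv k hk]; exact S.inv_mem h

/-- words for the letters -/
def wtab : List (ℕ × List ℕ) := [
  (8, [3, 3, 1, 5, 0, 4, 1, 4, 0, 6, 4, 2, 0, 3, 6, 4, 6]), (10, [1, 4, 0]), (12, [3, 4, 2]), (14, [2, 4, 3]),
  (16, [5, 11, 4, 10]), (18, [7, 1, 16, 16, 16, 16, 0, 6]),
  (20, [7, 1, 15, 5, 12, 12, 15, 5, 12, 12, 13, 4, 16, 16, 16, 16, 16, 16, 0, 6]),
  (22, [7, 1, 13, 13, 4, 14, 13, 13, 4, 14, 13, 13, 4, 14, 13, 13, 4, 14, 13, 13, 4, 14, 13, 13, 4, 14, 0, 6]),
  (24, [7, 1, 12, 12, 12, 0, 6]), (26, [7, 1, 2, 2, 0, 6]),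
  (28, [7, 1, 10, 17, 17, 15, 5, 12, 12, 13, 10, 17, 17, 15, 5, 12, 12, 13, 0, 6]),
  (30, [10, 17, 17, 15, 5, 12, 12, 13]), (32, [2]), (34, [12, 12, 12]), (36, [13, 13, 4, 14, 13, 13, 4, 14]),
  (38, [17, 17, 17, 17, 17, 17, 5, 12, 13, 13, 4, 14, 13, 13, 4, 14]), (40, [16, 16])]

theorem check_wtab : ∀ x ∈ wtab, checkEq C14 (x.2.map cd) ([x.1].map cd) 0 14 = true := by decide +kernel

theorem wtab_lt : ∀ x ∈ wtab, x.1 < 42 ∧ x.1 % 2 = 0 ∧ ∀ k ∈ x.2, k < x.1 := by decide +kernel

theorem wtab_all : ∀ k < 42, k % 2 = 0 → k < 8 ∨ ∃ x ∈ wtab, x.1 = k := by decide +kernel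

theorem iv_or (k : ℕ) (hk : k < 42) : k % 2 = 0 ∨ (iv k < k ∧ iv (iv k) = k) := by
  have key : ∀ k < 42, k % 2 = 0 ∨ (iv k < k ∧ iv (iv k) = k) := by decide +kernel
  exact key k hk

/-- A subgroup containing `a, b, c, d` contains all letters. -/
theorem all_mem {S : Subgroup GL14} (h0 : X 0 ∈ S) (h2 : X 2 ∈ S) (h4 : X 4 ∈ S) (h6 : X 6 ∈ S) :
    ∀ k < 42, X k ∈ S := by
  intro k
  induction k using Nat.strong_induction_on with
  | _ k ih =>
    intro hk
    rcases iv_or k hk with h | ⟨h, h'⟩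
    · rcases wtab_all k hk h with h8 | ⟨x, hx, rfl⟩
      · have : k = 0 ∨ k = 2 ∨ k = 4 ∨ k = 6 := by omega
        rcases this with rfl | rfl | rfl | rfl
        · exact h0
        · exact h2
        · exact h4
        · exact h6
      · rw [← ev_eq_X x.2 x.1 (check_wtab x hx)]
        exact mem_of_word fun j hj => by
          have := (wtab_lt x hx).2.2 j hj
          exact ih j this (by omega)
    · rw [← h']
      exact iv_mem (by omega) (ih _ h (by omega))

/-- A subgroup containing the root elements contains `a, b, c, d`. -/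
theorem abcd_mem {S : Subgroup GL14} (h : ∀ r < 12, X (18 + 2 * r) ∈ S) :
    X 0 ∈ S ∧ X 2 ∈ S ∧ X 4 ∈ S ∧ X 6 ∈ S := by
  have hY : ∀ j, 18 ≤ j → j < 42 → X j ∈ S := by
    intro j h1 h2
    rcases iv_or j h2 with h3 | ⟨h3, h4⟩
    · have := h ((j - 18) / 2) (by omega)
      have e : 18 + 2 * ((j - 18) / 2) = j := by omega
      rwa [e] at this
    · have h5 : iv j % 2 = 0 ∧ 18 ≤ iv j := by
        have key : ∀ j < 42, 18 ≤ j → iv j < j → iv j % 2 = 0 ∧ 18 ≤ iv j := by decide +kernel
        exact key j h2 h1 h3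
      have := h ((iv j - 18) / 2) (by omega)
      have e : 18 + 2 * ((iv j - 18) / 2) = iv j := by omega
      rw [e] at this
      rw [← h4]
      exact iv_mem (iv_lt' j h2).1 this
  refine ⟨?_, ?_, ?_, ?_⟩
  · rw [← ev_eq_X [32, 27, 32, 31, 31, 29, 29, 31, 31, 31, 28, 31] 0 (by decide +kernel)]
    exact mem_of_word fun j hj => hY j (by revert j; decide) (by revert j; decide)
  · rw [← ev_eq_X [32] 2 (by decide +kernel)]
    exact mem_of_word fun j hj => hY j (by revert j; decide) (by revert j; decide)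
  · rw [← ev_eq_X [34, 34, 36, 39, 40, 40] 4 (by decide +kernel)]
    exact mem_of_word fun j hj => hY j (by revert j; decide) (by revert j; decide)
  · rw [← ev_eq_X [40, 19, 40] 6 (by decide +kernel)]
    exact mem_of_word fun j hj => hY j (by revert j; decide) (by revert j; decide)

/-- the homomorphism `P44 → GL₁₄(5)` -/
def φ : P44 →* GL14 := hom holds_X

theorem X_mem_range : ∀ k < 42, X k ∈ φ.range :=
  all_mem ⟨pg 0, hom_pg holds_X 0⟩ ⟨pg 1, hom_pg holds_X 1⟩ ⟨pg 2, hom_pg holds_X 2⟩ ⟨pg 3, hom_pg holds_X 3⟩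

theorem range_le {S : Subgroup GL14} (h : ∀ r < 12, X (18 + 2 * r) ∈ S) : φ.range ≤ S := by
  obtain ⟨h0, h2, h4, h6⟩ := abcd_mem h
  have hall := all_mem h0 h2 h4 h6
  rintro _ ⟨x, rfl⟩
  have hx : x ∈ Subgroup.closure (Set.range pg) := by rw [closure_pg]; trivial
  induction hx using Subgroup.closure_induction with
  | mem x hx =>
    obtain ⟨i, rfl⟩ := hx
    rw [φ, hom_pg]
    fin_cases i
    · exact hall 0 (by norm_num)
    · exact hall 2 (by norm_num)
    · exact hall 4 (by norm_num)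
    · exact hall 6 (by norm_num)
    · exact hall 8 (by norm_num)
    · exact hall 10 (by norm_num)
    · exact hall 12 (by norm_num)
    · exact hall 14 (by norm_num)
    · exact hall 16 (by norm_num)
  | one => rw [map_one]; exact S.one_mem
  | mul x y _ _ hx hy => rw [map_mul]; exact S.mul_mem hx hy
  | inv x _ hx => rw [map_inv]; exact S.inv_mem hx

/-! ### Comparison with the Chevalley group -/

/-- coordinate index set of `chevG2` -/
abbrev J : Type := Fin 2 ⊕ Fin 12

def pos : J → ℕ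
  | .inl i => i.val
  | .inr u => 2 + u.val

/-- root elements -/
def xm (r : Fin 12) (t : ZMod 5) : Matrix J J (ZMod 5) := chevG2.xMat (ZMod 5) r t

def ent (M : Matrix J J (ZMod 5)) (i j : J) : ZMod 5 := M i j

def checkEntries (M : Matrix J J (ZMod 5)) (G : ℕ) : Prop :=
  ∀ i j : J, ent M i j = (dg 20 G (pos i + 14 * pos j) : ZMod 5)

instance (M : Matrix J J (ZMod 5)) (G : ℕ) : Decidable (checkEntries M G) := by
  unfold checkEntries; infer_instance

set_option maxRecDepth 100000 in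
theorem check_x : ∀ (r : Fin 12) (t : Fin 5),
    checkEntries (xm r ((t.val : ℕ) : ZMod 5)) (XC.getD (5 * r.val + t.val) 0) := by
  decide +kernel

/-- the word for `x_r(t)` -/
def wx (r t : ℕ) : List ℕ := List.replicate t (18 + 2 * r)

theorem okXC : ∀ (r : Fin 12) (t : Fin 5), okG C14 (XC.getD (5 * r.val + t.val) 0) = true := by
  decide +kernel

theorem check_wx : ∀ (r : Fin 12) (t : Fin 5),
    checkEq C14 [XC.getD (5 * r.val + t.val) 0] ((wx r.val t.val).map cd) 0 14 = true := by
  decide +kernel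

theorem mat_XC (r : Fin 12) (t : Fin 5) :
    mat C14 (XC.getD (5 * r.val + t.val) 0) = (ev X (wx r.val t.val) : GL14) := by
  rw [ev_val]
  have := prod_eq_of_check (C := C14) good14 one_lt_p (w₁ := [XC.getD (5 * r.val + t.val) 0])
    (w₂ := (wx r.val t.val).map cd) (by
      intro g hg
      rw [List.mem_singleton] at hg
      subst hg
      exact okXC r t) (ok_map _) (check_wx r t)
  rw [← this, List.map_cons, List.map_nil, List.prod_cons, List.prod_nil, mul_one]

/-- index equivalence -/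
def e14 : J ≃ Fin 14 := finSumFinEquiv

theorem e14_val (i : J) : (e14 i).val = pos i := by
  rcases i with i | i
  · rfl
  · rfl

/-- `GL₁₄(5) ≃ GL_J(5)` -/
def θ : GL14 ≃* GL J (ZMod 5) :=
  Units.mapEquiv (Matrix.reindexAlgEquiv (ZMod 5) (ZMod 5) (e14.symm : Fin 14 ≃ J)).toMulEquiv

theorem θ_val (g : GL14) (i j : J) :
    ((θ g : GL J (ZMod 5)) : Matrix J J (ZMod 5)) i j = (g : Mat14) (e14 i) (e14 j) := rfl

theorem θ_x (r : Fin 12) (t : Fin 5) :
    ((θ (ev X (wx r.val t.val)) : GL J (ZMod 5)) : Matrix J J (ZMod 5)) = xm r ((t.val : ℕ) : ZMod 5) := by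
  ext i j
  rw [θ_val]
  have h1 : ent (xm r ((t.val : ℕ) : ZMod 5)) i j =
    (dg 20 (XC.getD (5 * r.val + t.val) 0) (pos i + 14 * pos j) : ZMod 5) := check_x r t i j
  have h2 : xm r ((t.val : ℕ) : ZMod 5) i j = ent (xm r ((t.val : ℕ) : ZMod 5)) i j := rfl
  rw [h2, h1]
  have h3 : ((ev X (wx r.val t.val) : GL14) : Mat14) =
    mat C14 (XC.getD (5 * r.val + t.val) 0) := (mat_XC r t).symm
  rw [h3]
  have h4 := mat_def C14 (XC.getD (5 * r.val + t.val) 0) (e14 i) (e14 j)
  refine h4.trans ?_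
  rw [e14_val, e14_val]
  rfl

/-- the adjoint group of type `G₂` over the field with five elements -/
def Gp : Subgroup (GL J (ZMod 5)) := chevG2.group (ZMod 5)

theorem x_mem (r : Fin 12) (t : Fin 5) : θ (ev X (wx r.val t.val)) ∈ Gp :=
  Subgroup.subset_closure ⟨r, ((t.val : ℕ) : ZMod 5), θ_x r t⟩

/-- the homomorphism onto the Chevalley group -/
def ψ : P44 →* GL J (ZMod 5) := θ.toMonoidHom.comp φ

theorem ψ_range : ψ.range = Gp := by
  apply le_antisymm
  · have h1 : φ.range ≤ Gp.comap θ.toMonoidHom := by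
      apply range_le
      intro r hr
      have h2 := x_mem ⟨r, hr⟩ 1
      have e : ev X (wx r 1) = X (18 + 2 * r) := by
        change ev X [18 + 2 * r] = _
        rw [ev_cons, ev_nil, mul_one]
      have h3 : θ (ev X (wx r 1)) ∈ Gp := h2
      rw [e] at h3
      exact h3
    rintro _ ⟨x, rfl⟩
    exact h1 ⟨x, rfl⟩
  · unfold Gp ChevalleyDatum.group
    refine (Subgroup.closure_le _).2 ?_
    rintro g ⟨r, t, hg⟩
    have key : ∀ t : ZMod 5, ∃ s : Fin 5, t = ((s.val : ℕ) : ZMod 5) := by decide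
    obtain ⟨s, rfl⟩ := key t
    have h1 : g = θ (ev X (wx r.val s.val)) := Units.ext (hg.trans (θ_x r s).symm)
    rw [h1]
    have h2 : ev X (wx r.val s.val) ∈ φ.range := mem_of_word fun k hk => by
      have hk' : k = 18 + 2 * r.val := List.eq_of_mem_replicate hk
      have hr : r.val < 12 := r.2
      exact X_mem_range k (by omega)
    obtain ⟨x, hx⟩ := h2
    exact ⟨x, by rw [← hx]; rfl⟩

theorem xm_ne_one : xm 7 1 ≠ 1 := by
  intro h
  have h1 : ent (xm 7 1) (.inr 7) (.inl 0) = ent 1 (.inr 7) (.inl 0) := congrArg (fun M => ent M _ _) h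
  revert h1
  decide +kernel

theorem ψ_injective : Function.Injective ψ := by
  have hs := Simple.isSimpleGroup_P44
  rw [← MonoidHom.ker_eq_bot_iff]
  rcases hs.eq_bot_or_eq_top_of_normal ψ.ker inferInstance with h | h
  · exact h
  · exfalso
    have h1 := x_mem 7 1
    rw [← ψ_range] at h1
    obtain ⟨x, hx⟩ := h1
    have h2 : x ∈ ψ.ker := by rw [h]; trivial
    have h3 : ψ x = 1 := h2
    rw [h3] at hx
    have h4 := θ_x 7 1
    rw [← hx] at h4
    apply xm_ne_one
    exact h4.symm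

/-- relations 1–44 present `G₂(5)` -/
noncomputable def equivChev : P44 ≃* chevG2.group (ZMod 5) :=
  (MonoidHom.ofInjective ψ_injective).trans (MulEquiv.subgroupCongr ψ_range)

end Cfsg.Agent.SporRec.LyG2.G14
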