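import Cfsg.Agent.SporRec.LyG2.Bound

/-!
The group `P44` presented by the relations 1–44 of the presentation of the Lyons group.
-/

set_option autoImplicit false

namespace Cfsg.Agent.SporRec.LyG2.Pres

open Cfsg.Agent.SporadicRecognition.CosetCert
open Cfsg.Agent.SporRec.LyG2.Rel

theorem map_ev {G H : Type*} [Group G] [Group H] (φ : G →* H) (g : ℕ → G) (w : List ℕ) :
    φ (ev g w) = ev (fun n => φ (g n)) w := by
  induction w with
  | nil => rw [ev_nil, ev_nil, map_one]
  | cons x w ih => rw [ev_cons, ev_cons, map_mul, ih]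

theorem map_col1 {G H : Type*} [Group G] [Group H] (φ : G →* H) (a b c d e c2 c3 c4 c5 : G) (n : ℕ) :
    φ (col1 a b c d e c2 c3 c4 c5 n) = col1 (φ a) (φ b) (φ c) (φ d) (φ e) (φ c2) (φ c3) (φ c4) (φ c5) n := by
  unfold col1
  rcases n with _ | _ | _ | _ | _ | _ | _ | _ | _ | _ | _ | _ | _ | _ | _ | _ | _ | n <;>
    simp only [List.getD_cons_zero, List.getD_cons_succ, List.getD_nil, map_inv, map_one]

theorem map_ev_col1 {G H : Type*} [Group G] [Group H] (φ : G →* H) (a b c d e c2 c3 c4 c5 : G) (w : List ℕ) :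
    φ (ev (col1 a b c d e c2 c3 c4 c5) w) =
      ev (col1 (φ a) (φ b) (φ c) (φ d) (φ e) (φ c2) (φ c3) (φ c4) (φ c5)) w := by
  rw [map_ev]
  congr 1
  funext n
  exact map_col1 φ a b c d e c2 c3 c4 c5 n

/-- free generators `a b c d e c2 c3 c4 c5 = 0, …, 8` -/
abbrev F : Type := FreeGroup (Fin 9)

/-- the word in the free generators -/
def fw (w : List ℕ) : F :=
  ev (col1 (FreeGroup.of 0) (FreeGroup.of 1) (FreeGroup.of 2) (FreeGroup.of 3) (FreeGroup.of 4)
    (FreeGroup.of 5) (FreeGroup.of 6) (FreeGroup.of 7) (FreeGroup.of 8) : ℕ → F) w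

/-- the relators -/
def R44 : Set F := {r | r = FreeGroup.of 4 * FreeGroup.of 4 ∨ ∃ w ∈ T1Data.rels, r = fw w}

/-- the group presented by the relations 1–44 -/
abbrev P44 : Type := PresentedGroup R44

/-- canonical generators -/
def pg (i : Fin 9) : P44 := PresentedGroup.of i

theorem holds_P44 : Holds (pg 0) (pg 1) (pg 2) (pg 3) (pg 4) (pg 5) (pg 6) (pg 7) (pg 8) := by
  constructor
  · intro r hr
    have h1 : PresentedGroup.mk R44 (fw r) = 1 := PresentedGroup.one_of_mem (Or.inr ⟨r, hr, rfl⟩)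
    unfold fw at h1
    rw [map_ev_col1] at h1
    exact h1
  · have h1 : PresentedGroup.mk R44 (FreeGroup.of 4 * FreeGroup.of 4) = 1 :=
      PresentedGroup.one_of_mem (Or.inl rfl)
    rw [map_mul] at h1
    exact h1

variable {G : Type*} [Group G] {a b c d e c1 c2 c3 c4 c5 : G}

/-- The homomorphism from `P44` given by elements satisfying the relations. -/
def hom (h : Holds a b c d e c2 c3 c4 c5) : P44 →* G :=
  PresentedGroup.toGroup (f := ![a, b, c, d, e, c2, c3, c4, c5]) (rels := R44) (by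
    intro r hr
    rcases hr with rfl | ⟨w, hw, rfl⟩
    · rw [map_mul, FreeGroup.lift_apply_of]
      exact h.ee
    · unfold fw
      rw [map_ev_col1]
      simp only [FreeGroup.lift_apply_of]
      exact h.rel w hw)

theorem hom_pg (h : Holds a b c d e c2 c3 c4 c5) (i : Fin 9) :
    hom h (pg i) = ![a, b, c, d, e, c2, c3, c4, c5] i :=
  PresentedGroup.toGroup.of _

theorem closure_pg : Subgroup.closure (Set.range pg) = ⊤ := PresentedGroup.closure_range_of R44

theorem K1_top : Bound.K1 (pg 0) (pg 1) (pg 2) (pg 3) (pg 4) (pg 5) (pg 6) (pg 7) (pg 8) = ⊤ := by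
  rw [eq_top_iff, ← closure_pg, Subgroup.closure_le]
  rintro _ ⟨i, rfl⟩
  have key : ∀ n : ℕ, n < 17 → col1 (pg 0) (pg 1) (pg 2) (pg 3) (pg 4) (pg 5) (pg 6) (pg 7) (pg 8) n ∈
      Bound.K1 (pg 0) (pg 1) (pg 2) (pg 3) (pg 4) (pg 5) (pg 6) (pg 7) (pg 8) := fun n hn =>
    Subgroup.subset_closure ⟨n, hn, rfl⟩
  fin_cases i
  · exact key 11 (by norm_num)
  · exact key 9 (by norm_num)
  · exact key 13 (by norm_num)
  · exact key 15 (by norm_num)
  · exact key 8 (by norm_num)
  · exact key 6 (by norm_num)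
  · exact key 2 (by norm_num)
  · exact key 0 (by norm_num)
  · exact key 4 (by norm_num)

theorem finite_P44 : Finite P44 := by
  have h := (Bound.card_le holds_P44).1
  rw [K1_top] at h
  exact Finite.of_equiv _ Subgroup.topEquiv.toEquiv

instance : Finite P44 := finite_P44

theorem card_P44_le : Nat.card P44 ≤ 5859000000 := by
  have h := (Bound.card_le holds_P44).2
  rw [K1_top] at h
  rwa [Nat.card_congr Subgroup.topEquiv.toEquiv] at h

end Cfsg.Agent.SporRec.LyG2.Pres
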