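import Cfsg.Agent.SporRec.LyG2.M7Chk
import Cfsg.Agent.SporRec.LyG2.Pres

/-!
The subgroup `M7` of `GL₇(5)` generated by the four matrices `a, b, c, d`: exact order, isomorphism with `P44`.
-/

set_option autoImplicit false
set_option linter.dupNamespace false

namespace Cfsg.Agent.SporRec.LyG2.M7

open Cfsg.Agent.Lib.PackMat Cfsg.Agent.Lib.PackOrbit
open Cfsg.Agent.SporadicRecognition.CosetCert (ev ev_nil ev_cons ev_append)
open Cfsg.Agent.SporRec.LyG2.M7Data Cfsg.Agent.SporRec.LyG2.Rel Cfsg.Agent.SporRec.LyG2.Pres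

/-- `GL₇(5)` -/
abbrev GL7 : Type := GL (Fin C7.n) (ZMod C7.p)

abbrev Mat7 : Type := Matrix (Fin C7.n) (Fin C7.n) (ZMod C7.p)

instance finite_GL7 : Finite GL7 := (inferInstance : Finite (GL (Fin 7) (ZMod 5)))

instance finite_sub (S : Subgroup GL7) : Finite S := Finite.of_injective _ Subtype.val_injective

theorem good7 : Good C7 := good_of_check (by decide +kernel)

theorem one_lt_p : 1 < C7.p := by decide

/-- code of the letter `k` (the identity for `k ≥ 46`) -/
def cd (k : ℕ) : ℕ := L7.getD k ID7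

/-- inverse letter -/
def iv (k : ℕ) : ℕ := k ^^^ 1

theorem cd_big {k : ℕ} (h : 46 ≤ k) : cd k = ID7 := by
  unfold cd
  exact List.getD_eq_default _ _ (by simpa [L7] using h)

theorem okcd (k : ℕ) : okG C7 (cd k) = true := by
  rcases Nat.lt_or_ge k 46 with h | h
  · have key : ∀ k < 46, okG C7 (cd k) = true := by decide +kernel
    exact key k h
  · rw [cd_big h]; decide +kernel

theorem check_inv : ∀ k < 46, checkScalar C7 [cd k, cd (iv k)] 1 0 7 = true := by decide +kernel

theorem iv_lt : ∀ k < 46, iv k < 46 ∧ iv (iv k) = k := by decide +kernel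

theorem mat_inv (k : ℕ) (h : k < 46) : mat C7 (cd k) * mat C7 (cd (iv k)) = 1 := by
  have := prod_one_of_check (C := C7) (by decide +kernel) (w := [cd k, cd (iv k)]) one_lt_p (by
    intro g hg
    rcases List.mem_cons.mp hg with rfl | hg
    · exact okcd k
    · rw [List.mem_singleton] at hg
      subst hg
      exact okcd _) (check_inv k h)
  simpa using this

theorem mat_inv' (k : ℕ) (h : k < 46) : mat C7 (cd (iv k)) * mat C7 (cd k) = 1 := by
  have h1 := mat_inv (iv k) (iv_lt k h).1
  rwa [(iv_lt k h).2] at h1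

theorem mat_ID : mat C7 ID7 = 1 := by
  have := prod_one_of_check (C := C7) (by decide +kernel) (w := [ID7]) one_lt_p (by
    intro g hg
    rw [List.mem_singleton] at hg
    subst hg
    decide +kernel) (by decide +kernel)
  simpa using this

/-- the letter `k` as an element of `GL₇(5)` -/
def X (k : ℕ) : GL7 :=
  if h : k < 46 then ⟨mat C7 (cd k), mat C7 (cd (iv k)), mat_inv k h, mat_inv' k h⟩ else 1

theorem X_val (k : ℕ) : (X k : Mat7) = mat C7 (cd k) := by
  unfold X
  split_ifs with h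
  · rfl
  · rw [cd_big (by omega), mat_ID]; rfl

theorem X_iv (k : ℕ) (h : k < 46) : X (iv k) = (X k)⁻¹ := by
  apply eq_inv_of_mul_eq_one_left
  apply Units.ext
  rw [Units.val_mul, X_val, X_val, mat_inv' k h, Units.val_one]

theorem ev_val (w : List ℕ) : ((ev X w : GL7) : Mat7) = ((w.map cd).map (mat C7)).prod := by
  induction w with
  | nil => rw [ev_nil, List.map_nil, List.map_nil, List.prod_nil, Units.val_one]
  | cons x w ih =>
    rw [ev_cons, Units.val_mul, ih, X_val, List.map_cons, List.map_cons, List.prod_cons]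

theorem ok_map (w : List ℕ) : ∀ g ∈ w.map cd, okG C7 g = true := by
  intro g hg
  obtain ⟨k, -, rfl⟩ := List.mem_map.mp hg
  exact okcd k

/-- equality of words from a kernel check -/
theorem ev_eq (w w' : List ℕ) (h : checkEq C7 (w.map cd) (w'.map cd) 0 7 = true) : ev X w = ev X w' := by
  apply Units.ext
  rw [ev_val, ev_val]
  exact prod_eq_of_check (by decide +kernel) one_lt_p (ok_map w) (ok_map w') h

theorem ev_eq_one (w : List ℕ) (h : checkScalar C7 (w.map cd) 1 0 7 = true) : ev X w = 1 := by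
  apply Units.ext
  rw [ev_val, prod_one_of_check (by decide +kernel) one_lt_p (ok_map w) h, Units.val_one]

/-- equality of a word and a letter -/
theorem ev_eq_X (w : List ℕ) (k : ℕ) (h : checkEq C7 (w.map cd) ([k].map cd) 0 7 = true) : ev X w = X k := by
  rw [ev_eq w [k] h, ev_cons, ev_nil, mul_one]

/-- letters of the certificate `T1` as letters of `X` -/
def m1 : ℕ → ℕ := fun n => [14, 15, 12, 13, 16, 17, 10, 11, 8, 2, 3, 0, 1, 4, 5, 6, 7].getD n 46

theorem X_big : X 46 = 1 := by
  unfold X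
  rw [dif_neg (by norm_num)]

theorem col1_X (n : ℕ) : col1 (X 0) (X 2) (X 4) (X 6) (X 8) (X 10) (X 12) (X 14) (X 16) n = X (m1 n) := by
  have h : ∀ k, k < 46 → X (k ^^^ 1) = (X k)⁻¹ := X_iv
  unfold col1 m1
  rcases n with _ | _ | _ | _ | _ | _ | _ | _ | _ | _ | _ | _ | _ | _ | _ | _ | _ | n <;>
    simp only [List.getD_cons_zero, List.getD_cons_succ, List.getD_nil]
  · exact (h 14 (by norm_num)).symm
  · exact (h 12 (by norm_num)).symm
  · exact (h 16 (by norm_num)).symm
  · exact (h 10 (by norm_num)).symm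
  · exact (h 2 (by norm_num)).symm
  · exact (h 0 (by norm_num)).symm
  · exact (h 4 (by norm_num)).symm
  · exact (h 6 (by norm_num)).symm
  · exact X_big.symm

theorem check_rels : ∀ r ∈ T1Data.rels, checkScalar C7 ((r.map m1).map cd) 1 0 7 = true := by
  decide +kernel

/-- the matrices satisfy the relations 1–44 -/
theorem holds_X : Holds (X 0) (X 2) (X 4) (X 6) (X 8) (X 10) (X 12) (X 14) (X 16) := by
  constructor
  · intro r hr
    rw [Bound.ev_map X _ m1 col1_X]
    exact ev_eq_one _ (check_rels r hr)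
  · have := ev_eq_one [8, 8] (by decide +kernel)
    simpa [ev] using this

theorem mem_of_word {S : Subgroup GL7} {w : List ℕ} (h : ∀ k ∈ w, X k ∈ S) : ev X w ∈ S := by
  induction w with
  | nil => rw [ev_nil]; exact S.one_mem
  | cons x w ih =>
    rw [ev_cons]
    exact S.mul_mem (h x List.mem_cons_self) (ih fun k hk => h k (List.mem_cons_of_mem _ hk))

theorem iv_mem {S : Subgroup GL7} {k : ℕ} (hk : k < 46) (h : X k ∈ S) : X (iv k) ∈ S := by
  rw [X_iv k hk]; exact S.inv_mem h

/-- words for the letters -/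
def wtab : List (ℕ × List ℕ) := [
  (8, [3, 3, 1, 5, 0, 4, 1, 4, 0, 6, 4, 2, 0, 3, 6, 4, 6]), (10, [1, 4, 0]), (12, [3, 4, 2]), (14, [2, 4, 3]),
  (16, [5, 11, 4, 10]), (18, [7, 1, 16, 16, 16, 16, 0, 6]),
  (20, [7, 1, 15, 5, 12, 12, 15, 5, 12, 12, 13, 4, 16, 16, 16, 16, 16, 16, 0, 6]),
  (22, [7, 1, 13, 13, 4, 14, 13, 13, 4, 14, 13, 13, 4, 14, 13, 13, 4, 14, 13, 13, 4, 14, 13, 13, 4, 14, 0, 6]),
  (24, [7, 1, 12, 12, 12, 0, 6]), (26, [7, 1, 2, 2, 0, 6]),
  (28, [7, 1, 10, 17, 17, 15, 5, 12, 12, 13, 10, 17, 17, 15, 5, 12, 12, 13, 0, 6]),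
  (30, [10, 17, 17, 15, 5, 12, 12, 13]), (32, [2]), (34, [12, 12, 12]), (36, [13, 13, 4, 14, 13, 13, 4, 14]),
  (38, [17, 17, 17, 17, 17, 17, 5, 12, 13, 13, 4, 14, 13, 13, 4, 14]), (40, [16, 16]),
  (42, [30, 30, 28, 28, 30, 28, 31]), (44, [32, 32, 26, 26, 32, 26, 33])]

theorem check_wtab : ∀ x ∈ wtab, checkEq C7 (x.2.map cd) ([x.1].map cd) 0 7 = true := by decide +kernel

theorem wtab_lt : ∀ x ∈ wtab, x.1 < 46 ∧ x.1 % 2 = 0 ∧ ∀ k ∈ x.2, k < x.1 := by decide +kernel

theorem wtab_all : ∀ k < 46, k % 2 = 0 → k < 8 ∨ ∃ x ∈ wtab, x.1 = k := by decide +kernel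

theorem iv_or (k : ℕ) (hk : k < 46) : k % 2 = 0 ∨ (iv k < k ∧ iv (iv k) = k) := by
  have key : ∀ k < 46, k % 2 = 0 ∨ (iv k < k ∧ iv (iv k) = k) := by decide +kernel
  exact key k hk

/-- A subgroup containing `a, b, c, d` contains all letters. -/
theorem all_mem {S : Subgroup GL7} (h0 : X 0 ∈ S) (h2 : X 2 ∈ S) (h4 : X 4 ∈ S) (h6 : X 6 ∈ S) :
    ∀ k < 46, X k ∈ S := by
  intro k
  induction k using Nat.strong_induction_on with
  | _ k ih =>
    intro hk
    rcases iv_or k hk with h | ⟨h, h'⟩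
    · rcases wtab_all k hk h with h8 | ⟨x, hx, rfl⟩
      · have : k = 0 ∨ k = 2 ∨ k = 4 ∨ k = 6 := by omega
        rcases this with rfl | rfl | rfl | rfl
        · exact h0
        · exact h2
        · exact h4
        · exact h6
      · rw [← ev_eq_X x.2 x.1 (check_wtab x hx)]
        exact mem_of_word fun j hj => by
          have := (wtab_lt x hx).2.2 j hj
          exact ih j this (by omega)
    · rw [← h']
      exact iv_mem (by omega) (ih _ h (by omega))

/-- the group generated by the matrices `a, b, c, d` -/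
def M7 : Subgroup GL7 := Subgroup.closure {X 0, X 2, X 4, X 6}

theorem X_mem (k : ℕ) : X k ∈ M7 := by
  rcases Nat.lt_or_ge k 46 with h | h
  · exact all_mem (Subgroup.subset_closure (by simp)) (Subgroup.subset_closure (by simp))
      (Subgroup.subset_closure (by simp)) (Subgroup.subset_closure (by simp)) k h
  · unfold X
    rw [dif_neg (by omega)]
    exact M7.one_mem

/-- the homomorphism `P44 → GL₇(5)` -/
def φ : P44 →* GL7 := hom holds_X

theorem φ_range : φ.range = M7 := by
  apply le_antisymm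
  · rintro _ ⟨x, rfl⟩
    have hx : x ∈ Subgroup.closure (Set.range pg) := by rw [closure_pg]; trivial
    induction hx using Subgroup.closure_induction with
    | mem x hx =>
      obtain ⟨i, rfl⟩ := hx
      rw [φ, hom_pg]
      fin_cases i
      · exact X_mem 0
      · exact X_mem 2
      · exact X_mem 4
      · exact X_mem 6
      · exact X_mem 8
      · exact X_mem 10
      · exact X_mem 12
      · exact X_mem 14
      · exact X_mem 16
    | one => rw [map_one]; exact M7.one_mem
    | mul x y _ _ hx hy => rw [map_mul]; exact M7.mul_mem hx hy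
    | inv x _ hx => rw [map_inv]; exact M7.inv_mem hx
  · unfold M7
    rw [Subgroup.closure_le]
    rintro x (rfl | rfl | rfl | rfl)
    · exact ⟨pg 0, hom_pg holds_X 0⟩
    · exact ⟨pg 1, hom_pg holds_X 1⟩
    · exact ⟨pg 2, hom_pg holds_X 2⟩
    · exact ⟨pg 3, hom_pg holds_X 3⟩

theorem card_M7_le : Nat.card M7 ≤ 5859000000 := by
  rw [← φ_range]
  exact (Nat.card_le_card_of_surjective φ.rangeRestrict φ.rangeRestrict_surjective).trans card_P44_le

/-! ### The stabiliser chain -/

/-- letters generating the line stabiliser -/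
def N1L : List ℕ := [30, 28, 32, 34, 36, 38, 40, 42, 44]

def S1L : List ℕ := [30, 28, 32, 34, 36, 38, 40]

def S2L : List ℕ := [30, 28]

def gp (L : List ℕ) : Subgroup GL7 := Subgroup.closure {x | ∃ k ∈ L, x = X k}

theorem gp_mem {L : List ℕ} {k : ℕ} (h : k ∈ L) : X k ∈ gp L := Subgroup.subset_closure ⟨k, h, rfl⟩

theorem gp_le {L : List ℕ} {S : Subgroup GL7} (h : ∀ k ∈ L, X k ∈ S) : gp L ≤ S := by
  unfold gp
  rw [Subgroup.closure_le]
  rintro x ⟨k, hk, rfl⟩
  exact h k hk

/-- the subgroup fixing a row vector -/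
def fixer (v : Fin C7.n → ZMod C7.p) : Subgroup GL7 where
  carrier := {g | Matrix.vecMul v (g : Mat7) = v}
  one_mem' := by
    change Matrix.vecMul v ((1 : GL7) : Mat7) = v
    rw [Units.val_one, Matrix.vecMul_one]
  mul_mem' := by
    intro g h hg hh
    change Matrix.vecMul v ((g * h : GL7) : Mat7) = v
    rw [Units.val_mul, ← Matrix.vecMul_vecMul, show Matrix.vecMul v (g : Mat7) = v from hg]
    exact hh
  inv_mem' := by
    intro g hg
    change Matrix.vecMul v ((g⁻¹ : GL7) : Mat7) = v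
    conv_lhs => rw [← show Matrix.vecMul v (g : Mat7) = v from hg]
    rw [Matrix.vecMul_vecMul, ← Units.val_mul, mul_inv_cancel, Units.val_one, Matrix.vecMul_one]

theorem mem_fixer {v : Fin C7.n → ZMod C7.p} {g : GL7} : g ∈ fixer v ↔ Matrix.vecMul v (g : Mat7) = v := Iff.rfl

/-- codes of the base vectors -/
def R1 : ℕ := 65536

def R2 : ℕ := 79232998217542796110242775040

def R3 : ℕ := 79228162514264337593543950337

theorem okR_of_check {R : ℕ} (h1 : R < 2 ^ (C7.s * C7.n)) (h2 : ∀ i < C7.n, dg C7.s R i < C7.p) : OkR C7 R :=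
  ⟨h1, h2⟩

theorem ok_R1 : OkR C7 R1 := ⟨by decide +kernel, by decide +kernel⟩
theorem ok_R2 : OkR C7 R2 := ⟨by decide +kernel, by decide +kernel⟩
theorem ok_R3 : OkR C7 R3 := ⟨by decide +kernel, by decide +kernel⟩

theorem step_X {R : ℕ} (hR : OkR C7 R) (k : ℕ) :
    rowVec C7 (step C7 R (cd k)) = Matrix.vecMul (rowVec C7 R) (X k : Mat7) := by
  rw [(step_spec good7 hR (okcd k)).2, X_val]

theorem gp_fix {L : List ℕ} {R : ℕ} (hR : OkR C7 R) (h : ∀ k ∈ L, step C7 R (cd k) = R) :
    gp L ≤ fixer (rowVec C7 R) := by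
  apply gp_le
  intro k hk
  rw [mem_fixer, ← step_X hR, h k hk]

theorem gens_ok {O : OC} {L : List ℕ} (h : ∀ k < O.ng, L.getD k 46 ∈ L ∧ O.gens.get k = cd (L.getD k 46)) :
    ∀ k < O.ng, okG C7 (O.gens.get k) = true ∧ ∃ t ∈ gp L, (t : Mat7) = mat C7 (O.gens.get k) := by
  intro k hk
  obtain ⟨h1, h2⟩ := h k hk
  rw [h2]
  exact ⟨okcd _, X (L.getD k 46), gp_mem h1, X_val _⟩

theorem card_S2 : 120 ≤ Nat.card (gp S2L) := by
  have h := M7Chk.O3all.card_ge good7 ⊥ (gp S2L) bot_le
    (gens_ok (by decide +kernel)) R3 (by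
      intro k hk
      have : O3.roots.get k = R3 := by
        have key : ∀ k < O3.nr, O3.roots.get k = R3 := by decide +kernel
        exact key k hk
      rw [this]
      exact ⟨ok_R3, 1, Subgroup.one_mem _, by rw [Units.val_one, Matrix.vecMul_one]⟩) (by
      intro x hx
      rw [Subgroup.mem_bot] at hx
      rw [hx, Units.val_one, Matrix.vecMul_one])
  rw [Subgroup.card_bot, mul_one] at h
  exact h

theorem card_S1 : 375000 ≤ Nat.card (gp S1L) := by
  have h := M7Chk.O2all.card_ge good7 (gp S2L) (gp S1L)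
    (gp_le fun k hk => gp_mem (by revert k; decide))
    (gens_ok (by decide +kernel)) R2 (by
      intro k hk
      have : O2.roots.get k = R2 := by
        have key : ∀ k < O2.nr, O2.roots.get k = R2 := by decide +kernel
        exact key k hk
      rw [this]
      exact ⟨ok_R2, 1, Subgroup.one_mem _, by rw [Units.val_one, Matrix.vecMul_one]⟩) (by
      intro x hx
      exact gp_fix ok_R2 (by decide +kernel) hx)
  have h2 := card_S2
  have h3 : 3125 * Nat.card (gp S2L) ≤ Nat.card (gp S1L) := h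
  omega

theorem S1_le : gp S1L ≤ M7 := gp_le fun k _ => X_mem k

theorem N1_le : gp N1L ≤ M7 := gp_le fun k _ => X_mem k

theorem S1_fix : gp S1L ≤ fixer (rowVec C7 R1) := gp_fix ok_R1 (by decide +kernel)

/-- words for the double coset representatives -/
def wrep : List (List ℕ) := [[], [32, 27, 32], [32, 27, 32, 30, 29, 30, 32, 27, 32],
  [32, 27, 32, 30, 29, 30, 32, 27, 32, 30, 29, 30, 32, 27, 32]]

theorem roots1 : ∀ k < O1.nr, OkR C7 (O1.roots.get k) ∧
    rowVec C7 (O1.roots.get k) = Matrix.vecMul (rowVec C7 R1) ((ev X (wrep.getD k []) : GL7) : Mat7) := by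
  intro k hk
  have key : ∀ k < O1.nr, O1.roots.get k = run C7 ((wrep.getD k []).map cd) R1 := by decide +kernel
  obtain ⟨h1, h2⟩ := run_spec good7 ((wrep.getD k []).map cd) (ok_map _) ok_R1
  rw [key k hk, ev_val]
  exact ⟨h1, h2⟩

theorem card_M7_ge : 5859000000 ≤ Nat.card M7 := by
  have h := M7Chk.O1all.card_ge good7 (gp S1L) M7 S1_le (by
      intro k hk
      obtain ⟨h1, t, ht, h2⟩ := gens_ok (O := O1) (L := N1L) (by decide +kernel) k hk
      exact ⟨h1, t, N1_le ht, h2⟩) R1 (by
      intro k hk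
      obtain ⟨h1, h2⟩ := roots1 k hk
      exact ⟨h1, _, mem_of_word fun j _ => X_mem j, h2⟩) (fun x hx => S1_fix hx)
  have h2 := card_S1
  have h3 : 15624 * Nat.card (gp S1L) ≤ Nat.card M7 := h
  omega

theorem card_M7 : Nat.card M7 = 5859000000 := le_antisymm card_M7_le card_M7_ge

theorem card_P44 : Nat.card P44 = 5859000000 := by
  apply le_antisymm card_P44_le
  rw [← card_M7, ← φ_range]
  exact Nat.card_le_card_of_surjective φ.rangeRestrict φ.rangeRestrict_surjective

theorem φ_injective : Function.Injective φ := by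
  have h1 : Function.Bijective φ.rangeRestrict := by
    rw [Nat.bijective_iff_surjective_and_card]
    exact ⟨φ.rangeRestrict_surjective, by rw [φ_range, card_M7, card_P44]⟩
  intro x y hxy
  apply h1.1
  exact Subtype.ext hxy

end Cfsg.Agent.SporRec.LyG2.M7
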