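import Cfsg.Agent.SporRec.LyG2.Rel28
import Cfsg.Agent.SporRec.LyG2.M7

/-!
The group presented by the relations 1–28 has order `1500000` and is isomorphic with the subgroup of `GL₇(5)`
generated by the matrices `a, b, c`.
-/

set_option autoImplicit false
set_option linter.dupNamespace false

namespace Cfsg.Agent.SporRec.LyG2.P28

open Cfsg.Agent.SporadicRecognition.CosetCert Cfsg.Agent.SporadicRecognition.CosetCertHyp
open Cfsg.Agent.SporRec.LyG2.Rel Cfsg.Agent.SporRec.LyG2.Bound Cfsg.Agent.SporRec.LyG2.Rel28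
open Cfsg.Agent.SporRec.LyG2.Pres Cfsg.Agent.SporRec.LyG2.M7

variable {G : Type*} [Group G] {a b c c2 c3 c4 c5 : G}

def m32 : ℕ → ℕ := fun n => [0, 1, 2, 3].getD n 14

theorem col3_eq' (a b c c2 c3 c4 c5 : G) (x : ℕ) :
    col3 a b x = col2 a b c c2 c3 c4 c5 (m32 x) := by
  unfold col3 m32 col2
  rcases x with _ | _ | _ | _ | x <;> rfl

theorem rels32_sub : ∀ r ∈ T3Data.rels, r.map m32 ∈ T2Data.rels := by decide +kernel

theorem hyp3 (h : Rel28 a b c c2 c3 c4 c5) :
    Hyp T3Data.C (Subgroup.zpowers a) (col3 a b) := by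
  refine hyp_of_checks _ _ T3Data.C T3Data.rels T3Data.subw rfl ?_ ?_ ?_ (by decide +kernel)
  · intro x hx
    have hx' : x < 4 := hx
    interval_cases x <;> refine ⟨by decide +kernel, ?_⟩
    · exact mul_inv_cancel a
    · exact inv_mul_cancel a
    · exact mul_inv_cancel b
    · exact inv_mul_cancel b
  · intro r hr
    rw [ev_map _ _ m32 (col3_eq' a b c c2 c3 c4 c5)]
    exact h.rels _ (rels32_sub r hr)
  · intro s hs
    have : s = [0] := by simpa [T3Data.subw] using hs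
    subst this
    have : ev (col3 a b) [0] = a := by simp [ev, col3]
    rw [this]
    exact Subgroup.mem_zpowers a

theorem hyp2 (h : Rel28 a b c c2 c3 c4 c5) :
    Hyp T2Data.C (K3 a b) (col2 a b c c2 c3 c4 c5) := by
  refine hyp_of_checks _ _ T2Data.C T2Data.rels T2Data.subw rfl ?_ h.rels ?_ (by decide +kernel)
  · intro x hx
    have hx' : x < 14 := hx
    interval_cases x <;> refine ⟨by decide +kernel, ?_⟩
    · exact mul_inv_cancel a
    · exact inv_mul_cancel a
    · exact mul_inv_cancel b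
    · exact inv_mul_cancel b
    · exact mul_inv_cancel c
    · exact inv_mul_cancel c
    · exact mul_inv_cancel c2
    · exact inv_mul_cancel c2
    · exact mul_inv_cancel c3
    · exact inv_mul_cancel c3
    · exact mul_inv_cancel c4
    · exact inv_mul_cancel c4
    · exact mul_inv_cancel c5
    · exact inv_mul_cancel c5
  · intro s hs
    have hs' : s = [0] ∨ s = [2] := by simpa [T2Data.subw] using hs
    rcases hs' with rfl | rfl
    · have : ev (col2 a b c c2 c3 c4 c5) [0] = a := by simp [ev, col2]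
      rw [this]
      exact Subgroup.subset_closure ⟨0, by decide, rfl⟩
    · have : ev (col2 a b c c2 c3 c4 c5) [2] = b := by simp [ev, col2]
      rw [this]
      exact Subgroup.subset_closure ⟨2, by decide, rfl⟩

theorem card_zpowers_le (h : Rel28 a b c c2 c3 c4 c5) :
    Finite (Subgroup.zpowers a) ∧ Nat.card (Subgroup.zpowers a) ≤ 8 := by
  have h8 : orderOf a ∣ 8 := orderOf_dvd_of_pow_eq_one h.r1
  have hpos : 0 < orderOf a := Nat.pos_of_dvd_of_pos h8 (by norm_num)
  have hf : IsOfFinOrder a := orderOf_pos_iff.mp hpos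
  refine ⟨(finite_zpowers.mpr hf).to_subtype, ?_⟩
  rw [Nat.card_zpowers]
  exact Nat.le_of_dvd (by norm_num) h8

/-- The upper bound. -/
theorem card_le (h : Rel28 a b c c2 c3 c4 c5) :
    Finite (K2 a b c c2 c3 c4 c5) ∧ Nat.card (K2 a b c c2 c3 c4 c5) ≤ 1500000 := by
  obtain ⟨f0, k0⟩ := card_zpowers_le h
  obtain ⟨f3, k3⟩ := card_closure_le T3Data.C (Subgroup.zpowers a) (col3 a b) (hyp3 h) T3All.part
  have : Finite (K3 a b) := f3
  obtain ⟨f2, k2⟩ := card_closure_le T2Data.C (K3 a b) (col2 a b c c2 c3 c4 c5) (hyp2 h) T2All.part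
  refine ⟨f2, ?_⟩
  change Nat.card (K2 a b c c2 c3 c4 c5) ≤ _ at k2
  change Nat.card (K3 a b) ≤ _ at k3
  calc Nat.card (K2 a b c c2 c3 c4 c5) ≤ 3125 * Nat.card (K3 a b) := k2
    _ ≤ 3125 * (60 * Nat.card (Subgroup.zpowers a)) := Nat.mul_le_mul_left _ k3
    _ ≤ 3125 * (60 * 8) := Nat.mul_le_mul_left _ (Nat.mul_le_mul_left _ k0)
    _ = 1500000 := by norm_num

/-! ### The presented group -/

theorem map_col2 {G H : Type*} [Group G] [Group H] (φ : G →* H) (a b c c2 c3 c4 c5 : G) (n : ℕ) :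
    φ (col2 a b c c2 c3 c4 c5 n) = col2 (φ a) (φ b) (φ c) (φ c2) (φ c3) (φ c4) (φ c5) n := by
  unfold col2
  rcases n with _ | _ | _ | _ | _ | _ | _ | _ | _ | _ | _ | _ | _ | _ | n <;>
    simp only [List.getD_cons_zero, List.getD_cons_succ, List.getD_nil, map_inv, map_one]

theorem map_ev_col2 {G H : Type*} [Group G] [Group H] (φ : G →* H) (a b c c2 c3 c4 c5 : G) (w : List ℕ) :
    φ (ev (col2 a b c c2 c3 c4 c5) w) = ev (col2 (φ a) (φ b) (φ c) (φ c2) (φ c3) (φ c4) (φ c5)) w := by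
  rw [map_ev]
  congr 1
  funext n
  exact map_col2 φ a b c c2 c3 c4 c5 n

/-- free generators `a b c c2 c3 c4 c5 = 0, …, 6` -/
abbrev F7 : Type := FreeGroup (Fin 7)

/-- the word in the free generators -/
def fw (w : List ℕ) : F7 :=
  ev (col2 (FreeGroup.of 0) (FreeGroup.of 1) (FreeGroup.of 2) (FreeGroup.of 3) (FreeGroup.of 4)
    (FreeGroup.of 5) (FreeGroup.of 6) : ℕ → F7) w

/-- the relators -/
def R28 : Set F7 := {r | ∃ w ∈ T2Data.rels, r = fw w}

/-- the group presented by the relations 1–28 -/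
abbrev P28 : Type := PresentedGroup R28

/-- canonical generators -/
def qg (i : Fin 7) : P28 := PresentedGroup.of i

theorem rel_P28 : Rel28 (qg 0) (qg 1) (qg 2) (qg 3) (qg 4) (qg 5) (qg 6) := by
  apply of_rels
  intro r hr
  have h1 : PresentedGroup.mk R28 (fw r) = 1 := PresentedGroup.one_of_mem ⟨r, hr, rfl⟩
  unfold fw at h1
  rw [map_ev_col2] at h1
  exact h1

/-- The homomorphism from `P28` given by elements satisfying the relations. -/
def hom28 (h : Rel28 a b c c2 c3 c4 c5) : P28 →* G :=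
  PresentedGroup.toGroup (f := ![a, b, c, c2, c3, c4, c5]) (rels := R28) (by
    rintro r ⟨w, hw, rfl⟩
    unfold fw
    rw [map_ev_col2]
    simp only [FreeGroup.lift_apply_of]
    exact h.rels w hw)

theorem hom28_qg (h : Rel28 a b c c2 c3 c4 c5) (i : Fin 7) :
    hom28 h (qg i) = ![a, b, c, c2, c3, c4, c5] i :=
  PresentedGroup.toGroup.of _

theorem closure_qg : Subgroup.closure (Set.range qg) = ⊤ := PresentedGroup.closure_range_of R28

theorem K2_top : Bound.K2 (qg 0) (qg 1) (qg 2) (qg 3) (qg 4) (qg 5) (qg 6) = ⊤ := by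
  rw [eq_top_iff, ← closure_qg, Subgroup.closure_le]
  rintro _ ⟨i, rfl⟩
  have key : ∀ n : ℕ, n < 14 → col2 (qg 0) (qg 1) (qg 2) (qg 3) (qg 4) (qg 5) (qg 6) n ∈
      Bound.K2 (qg 0) (qg 1) (qg 2) (qg 3) (qg 4) (qg 5) (qg 6) := fun n hn =>
    Subgroup.subset_closure ⟨n, hn, rfl⟩
  fin_cases i
  · exact key 0 (by norm_num)
  · exact key 2 (by norm_num)
  · exact key 4 (by norm_num)
  · exact key 6 (by norm_num)
  · exact key 8 (by norm_num)
  · exact key 10 (by norm_num)
  · exact key 12 (by norm_num)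

theorem finite_P28 : Finite P28 := by
  have h := (card_le rel_P28).1
  rw [K2_top] at h
  exact Finite.of_equiv _ Subgroup.topEquiv.toEquiv

instance : Finite P28 := finite_P28

theorem card_P28_le : Nat.card P28 ≤ 1500000 := by
  have h := (card_le rel_P28).2
  rw [K2_top] at h
  rwa [Nat.card_congr Subgroup.topEquiv.toEquiv] at h

/-! ### The matrices -/

theorem rel_X : Rel28 (X 0) (X 2) (X 4) (X 10) (X 12) (X 14) (X 16) := by
  apply of_rels
  intro r hr
  have h := holds_X.rel (r.map m2) (by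
    have key : ∀ r ∈ T2Data.rels, r.map m2 ∈ T1Data.rels := rels2_sub
    exact key r hr)
  rwa [← ev_map _ _ m2 (col2_eq (X 0) (X 2) (X 4) (X 6) (X 8) (X 10) (X 12) (X 14) (X 16))] at h

/-- the subgroup generated by the matrices `a, b, c` -/
def M28 : Subgroup GL7 := Subgroup.closure {X 0, X 2, X 4}

theorem M28_le : M28 ≤ M7 := by
  unfold M28 M7
  apply Subgroup.closure_mono
  rintro x (rfl | rfl | rfl)
  · exact Or.inl rfl
  · exact Or.inr (Or.inl rfl)
  · exact Or.inr (Or.inr (Or.inl rfl))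

theorem X_mem28 : X 0 ∈ M28 ∧ X 2 ∈ M28 ∧ X 4 ∈ M28 ∧ X 10 ∈ M28 ∧ X 12 ∈ M28 ∧ X 14 ∈ M28 ∧ X 16 ∈ M28 := by
  have h0 : X 0 ∈ M28 := Subgroup.subset_closure (by simp)
  have h1 : X 2 ∈ M28 := Subgroup.subset_closure (by simp)
  have h2 : X 4 ∈ M28 := Subgroup.subset_closure (by simp)
  have e10 : X 10 = (X 0)⁻¹ * X 4 * X 0 := mul_inv_eq_one.mp rel_X.r7
  have e12 : X 12 = (X 2)⁻¹ * X 4 * X 2 := mul_inv_eq_one.mp rel_X.r8
  have e14 : X 14 = ((X 2)⁻¹)⁻¹ * X 4 * (X 2)⁻¹ := mul_inv_eq_one.mp rel_X.r9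
  have e16 : X 16 = (X 4)⁻¹ * (X 10)⁻¹ * X 4 * X 10 := mul_inv_eq_one.mp rel_X.r10
  have h10 : X 10 ∈ M28 := e10 ▸ M28.mul_mem (M28.mul_mem (M28.inv_mem h0) h2) h0
  refine ⟨h0, h1, h2, h10, e12 ▸ M28.mul_mem (M28.mul_mem (M28.inv_mem h1) h2) h1,
    e14 ▸ M28.mul_mem (M28.mul_mem (M28.inv_mem (M28.inv_mem h1)) h2) (M28.inv_mem h1), ?_⟩
  rw [e16]
  exact M28.mul_mem (M28.mul_mem (M28.mul_mem (M28.inv_mem h2) (M28.inv_mem h10)) h2) h10

theorem K2_X : Bound.K2 (X 0) (X 2) (X 4) (X 10) (X 12) (X 14) (X 16) = M28 := by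
  obtain ⟨h0, h1, h2, h3, h4, h5, h6⟩ := X_mem28
  apply le_antisymm
  · unfold Bound.K2
    rw [Subgroup.closure_le]
    rintro _ ⟨n, hn, rfl⟩
    have hn' : n < 14 := hn
    have key : ∀ n < 14, col2 (X 0) (X 2) (X 4) (X 10) (X 12) (X 14) (X 16) n ∈ M28 := by
      intro n hn
      unfold col2
      rcases n with _ | _ | _ | _ | _ | _ | _ | _ | _ | _ | _ | _ | _ | _ | n
      · exact h0
      · exact M28.inv_mem h0
      · exact h1
      · exact M28.inv_mem h1
      · exact h2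
      · exact M28.inv_mem h2
      · exact h3
      · exact M28.inv_mem h3
      · exact h4
      · exact M28.inv_mem h4
      · exact h5
      · exact M28.inv_mem h5
      · exact h6
      · exact M28.inv_mem h6
      · omega
    exact key n hn'
  · unfold M28
    rw [Subgroup.closure_le]
    have key : ∀ n : ℕ, n < 14 → col2 (X 0) (X 2) (X 4) (X 10) (X 12) (X 14) (X 16) n ∈
        Bound.K2 (X 0) (X 2) (X 4) (X 10) (X 12) (X 14) (X 16) := fun n hn =>
      Subgroup.subset_closure ⟨n, hn, rfl⟩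
    rintro x (rfl | rfl | rfl)
    · exact key 0 (by norm_num)
    · exact key 2 (by norm_num)
    · exact key 4 (by norm_num)

theorem K1_X : M7 ≤ Bound.K1 (X 0) (X 2) (X 4) (X 6) (X 8) (X 10) (X 12) (X 14) (X 16) := by
  unfold M7
  rw [Subgroup.closure_le]
  have key : ∀ n : ℕ, n < 17 → col1 (X 0) (X 2) (X 4) (X 6) (X 8) (X 10) (X 12) (X 14) (X 16) n ∈
      Bound.K1 (X 0) (X 2) (X 4) (X 6) (X 8) (X 10) (X 12) (X 14) (X 16) := fun n hn =>
    Subgroup.subset_closure ⟨n, hn, rfl⟩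
  rintro x (rfl | rfl | rfl | rfl)
  · exact key 11 (by norm_num)
  · exact key 9 (by norm_num)
  · exact key 13 (by norm_num)
  · exact key 15 (by norm_num)

theorem card_M28_ge : 1500000 ≤ Nat.card M28 := by
  obtain ⟨f2, -⟩ := card_le rel_X
  have : Finite (Bound.K2 (X 0) (X 2) (X 4) (X 10) (X 12) (X 14) (X 16)) := f2
  obtain ⟨f1, k1⟩ := card_closure_le T1Data.C (Bound.K2 (X 0) (X 2) (X 4) (X 10) (X 12) (X 14) (X 16)) _
    (hyp1 holds_X) T1All.part
  have h1 : Nat.card M7 ≤ Nat.card (Bound.K1 (X 0) (X 2) (X 4) (X 6) (X 8) (X 10) (X 12) (X 14) (X 16)) :=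
    Nat.card_le_card_of_injective _ (Subgroup.inclusion_injective K1_X)
  change Nat.card (Bound.K1 (X 0) (X 2) (X 4) (X 6) (X 8) (X 10) (X 12) (X 14) (X 16)) ≤
    3906 * Nat.card (Bound.K2 (X 0) (X 2) (X 4) (X 10) (X 12) (X 14) (X 16)) at k1
  rw [K2_X] at k1
  rw [card_M7] at h1
  omega

/-- the homomorphism `P28 → GL₇(5)` -/
def φ28 : P28 →* GL7 := hom28 rel_X

theorem φ28_range : φ28.range = M28 := by
  obtain ⟨h0, h1, h2, h3, h4, h5, h6⟩ := X_mem28
  apply le_antisymm
  · rintro _ ⟨x, rfl⟩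
    have hx : x ∈ Subgroup.closure (Set.range qg) := by rw [closure_qg]; trivial
    induction hx using Subgroup.closure_induction with
    | mem x hx =>
      obtain ⟨i, rfl⟩ := hx
      rw [φ28, hom28_qg]
      fin_cases i
      · exact h0
      · exact h1
      · exact h2
      · exact h3
      · exact h4
      · exact h5
      · exact h6
    | one => rw [map_one]; exact M28.one_mem
    | mul x y _ _ hx hy => rw [map_mul]; exact M28.mul_mem hx hy
    | inv x _ hx => rw [map_inv]; exact M28.inv_mem hx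
  · unfold M28
    rw [Subgroup.closure_le]
    rintro x (rfl | rfl | rfl)
    · exact ⟨qg 0, hom28_qg rel_X 0⟩
    · exact ⟨qg 1, hom28_qg rel_X 1⟩
    · exact ⟨qg 2, hom28_qg rel_X 2⟩

theorem card_M28 : Nat.card M28 = 1500000 := by
  apply le_antisymm _ card_M28_ge
  rw [← φ28_range]
  exact (Nat.card_le_card_of_surjective φ28.rangeRestrict φ28.rangeRestrict_surjective).trans card_P28_le

theorem card_P28 : Nat.card P28 = 1500000 := by
  apply le_antisymm card_P28_le
  rw [← card_M28, ← φ28_range]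
  exact Nat.card_le_card_of_surjective φ28.rangeRestrict φ28.rangeRestrict_surjective

theorem φ28_injective : Function.Injective φ28 := by
  have h1 : Function.Bijective φ28.rangeRestrict := by
    rw [Nat.bijective_iff_surjective_and_card]
    exact ⟨φ28.rangeRestrict_surjective, by rw [φ28_range, card_M28, card_P28]⟩
  intro x y hxy
  apply h1.1
  exact Subtype.ext hxy

/-- `P28 ≃ M28` -/
noncomputable def equiv28 : P28 ≃* M28 :=
  (MonoidHom.ofInjective φ28_injective).trans (MulEquiv.subgroupCongr φ28_range)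

/-- The homomorphism from the matrix group `⟨a, b, c⟩ ≤ GL₇(5)` given by elements satisfying the relations 1–28. -/
noncomputable def psi28 (h : Rel28 a b c c2 c3 c4 c5) : M28 →* G :=
  (hom28 h).comp equiv28.symm.toMonoidHom

theorem psi28_qg (h : Rel28 a b c c2 c3 c4 c5) (i : Fin 7) (x : M28)
    (hx : (x : GL7) = ![X 0, X 2, X 4, X 10, X 12, X 14, X 16] i) :
    psi28 h x = ![a, b, c, c2, c3, c4, c5] i := by
  rw [← hom28_qg h i]
  have h1 : equiv28 (qg i) = x := Subtype.ext ((hom28_qg rel_X i).trans hx.symm)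
  unfold psi28
  rw [MonoidHom.comp_apply]
  congr 1
  rw [← h1]
  exact equiv28.symm_apply_apply _

/-- **Word problem** in `⟨a, b, c⟩`: words with equal `7 × 7` matrices are equal in every group satisfying 1–28.
Letters: `0 … 13 = a, a⁻¹, b, b⁻¹, c, c⁻¹, c2, c2⁻¹, c3, c3⁻¹, c4, c4⁻¹, c5, c5⁻¹`. -/
theorem eq_of_mat (h : Rel28 a b c c2 c3 c4 c5) (w w' : List ℕ)
    (hw : ev (col2 (X 0) (X 2) (X 4) (X 10) (X 12) (X 14) (X 16)) w =
      ev (col2 (X 0) (X 2) (X 4) (X 10) (X 12) (X 14) (X 16)) w') :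
    ev (col2 a b c c2 c3 c4 c5) w = ev (col2 a b c c2 c3 c4 c5) w' := by
  have e1 : ∀ w, hom28 h (ev (col2 (qg 0) (qg 1) (qg 2) (qg 3) (qg 4) (qg 5) (qg 6)) w) =
      ev (col2 a b c c2 c3 c4 c5) w := by
    intro w
    rw [map_ev_col2, hom28_qg h 0, hom28_qg h 1, hom28_qg h 2, hom28_qg h 3, hom28_qg h 4, hom28_qg h 5,
      hom28_qg h 6]
    rfl
  have e2 : ∀ w, φ28 (ev (col2 (qg 0) (qg 1) (qg 2) (qg 3) (qg 4) (qg 5) (qg 6)) w) =
      ev (col2 (X 0) (X 2) (X 4) (X 10) (X 12) (X 14) (X 16)) w := by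
    intro w
    rw [map_ev_col2, φ28, hom28_qg rel_X 0, hom28_qg rel_X 1, hom28_qg rel_X 2, hom28_qg rel_X 3,
      hom28_qg rel_X 4, hom28_qg rel_X 5, hom28_qg rel_X 6]
    rfl
  rw [← e1, ← e1]
  congr 1
  apply φ28_injective
  rw [e2, e2, hw]

/-- letters of `T2` as letters of `X` -/
def mX : ℕ → ℕ := fun n => [0, 1, 2, 3, 4, 5, 10, 11, 12, 13, 14, 15, 16, 17].getD n 46

theorem col2_X (n : ℕ) : col2 (X 0) (X 2) (X 4) (X 10) (X 12) (X 14) (X 16) n = X (mX n) := by
  have h : ∀ k, k < 46 → X (k ^^^ 1) = (X k)⁻¹ := X_iv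
  unfold col2 mX
  rcases n with _ | _ | _ | _ | _ | _ | _ | _ | _ | _ | _ | _ | _ | _ | n <;>
    simp only [List.getD_cons_zero, List.getD_cons_succ, List.getD_nil]
  · exact (h 0 (by norm_num)).symm
  · exact (h 2 (by norm_num)).symm
  · exact (h 4 (by norm_num)).symm
  · exact (h 10 (by norm_num)).symm
  · exact (h 12 (by norm_num)).symm
  · exact (h 14 (by norm_num)).symm
  · exact (h 16 (by norm_num)).symm
  · exact X_big.symm

/-- **Decision procedure**: equality of words in `a, b, c, …` by a kernel check of `7 × 7` matrices. -/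
theorem eq_of_check (h : Rel28 a b c c2 c3 c4 c5) (w w' : List ℕ)
    (hw : Cfsg.Agent.Lib.PackMat.checkEq M7Data.C7 ((w.map mX).map cd) ((w'.map mX).map cd) 0 7 = true) :
    ev (col2 a b c c2 c3 c4 c5) w = ev (col2 a b c c2 c3 c4 c5) w' := by
  apply eq_of_mat h
  rw [ev_map X _ mX col2_X, ev_map X _ mX col2_X]
  exact ev_eq _ _ hw

end Cfsg.Agent.SporRec.LyG2.P28
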