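import Cfsg.Agent.SporadicRecognition.CosetCert

set_option autoImplicit false
set_option maxRecDepth 100000

namespace Cfsg.Agent.SporRec.LyG2.T3Data

open Cfsg.Agent.SporadicRecognition.CosetCert

noncomputable def tree : Tr := (.N 32 (.N 16 (.L 0xfffe6438bc4aa9b54365fffd38d25192b125c247fff948831208e6118c1ffff442e845894394071fffe7c547c3110823105fffc7431e143926704cffff9b12342232147028ffff30202e10b47960f2fffe2a10a87120c21187fffc5028883271a4c34bfff900c1e161a0c4018ffff0b04261c6c50d0a3fffe302458403820a043fffc48382810f0c1c18bfff81810c0a12102021ffff060608080808081f) (.L 0xffff3ac19c9b4a06a405fffd849cdaf662ec85cffffb01c5d2532ba61717fff77472cb56492e121fffeae457cf49ac92587fffe315c52a5320ac407fffc3294d1ea04544897fff491f08a12cca6193ffff049e013228e481c3fffdf12a18d633eca7cbfffa08d7a48ea8dd119ffff40287a31c5138222fffe762cfcab6a16c427fffda10311f3716742c7fffaf1e3514b67568e97fff3314b07148d279a3))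 (.N 48 (.L 0xffff3ebe7105131a4625fffe68fcf30e47bc6f4f70f7fffffff2e7bfff8ffff953ba4eea99d6333ffffaccf7de489c94383ffff618c59b8e511ea0bfffc49bd4439aef31d9ffff88510a6b25d643a2ffff06661d4c82b8d567ffff11cc098b66b70d4bfffbf98c27166d2c1a1ffff7e48f65efdbdf372fffef259f52de36bb6c7fffed5abc1d732cec587fffd7b4a966de55c8a8ffffa76542c5aca37141) (.L 0xffffe8fbddffc40f9807ffffda0773af179e6f0bffff6bdf581d0e3adc0ffffe775d8fb897f2af1ffffbcb385a793ff07e7ffff456e835cb559ca87ffff7bfe67b8ea72948ecb7c671869ffffffff2ffff829b15cf53ee97c7ffff6dc6d27bd4b809477527fffffff7493fff8ffffcf77688ee53dba72ffffc0f2b9158a6b24c5fffea116aacad5b56b4f4d57fffa643fffffff97fffa043aeae95851b03)))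

noncomputable def wtree : WT := (.N 8 (.N 4 (.N 2 (.N 1 (.L 1 [3,1,1,2,0]) (.L 1 [2,1,1,3,0])) (.N 3 (.L 2 [3,3,3,3]) (.L 0 [3,1,3,1,3,1,3]))) (.N 6 (.N 5 (.L 0 [2,0,0,3,1]) (.L 1 [3,1,2,0,3,1,2,0,3,1,2])) (.N 7 (.L 1 [2,0,2,0,2,0,2]) (.L 0 [1,3,0,0,2])))) (.N 12 (.N 10 (.N 9 (.L 1 [2,1,3,0,2,1,3,0,2,1,3]) (.L 3 [0,2,0,2,0,2,0])) (.N 11 (.L 0 [3,0,2,1,3,0,2,1,3,0,2]) (.L 0 [2,0,3,1,2,0,3,1,2,0,3]))) (.N 14 (.N 13 (.L 3 [2,2,2,2]) (.L 4 [1,3,1,3,1,3,1,3])) (.N 15 (.L 2 [1,2,0,3,1,2,0,3,1,2,0]) (.N 16 (.L 4 [2,0,3,1,2,0,3,1,2,0,3,1]) (.L 4 [2,0,2,0,2,0,2,0]))))))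

noncomputable def stree : ST := (.L 0 [] [])

noncomputable def C : Cert where
  data := tree
  lm := 15
  rb := 79
  fb := 15
  mask := 32767
  B := 128
  k := 4
  N := 64
  inv := fun x => bif Nat.beq x 0 then 1 else bif Nat.beq x 1 then 0 else bif Nat.beq x 2 then 3 else bif Nat.beq x 3 then 2 else x
  words := wtree
  subs := stree

def rels : List (List Nat) := [[2,2,2,2,2], [1,1,3,0,0,2], [0,0,0,0,0,0,0,0], [0,2,0,2,0,2,0,2], [1,3,0,2,1,3,0,2,1,3,0,2]]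

def subw : List (List Nat) := [[0]]

end Cfsg.Agent.SporRec.LyG2.T3Data
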