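import Cfsg.Agent.SporRec.LyG2.T1Data
import Cfsg.Agent.SporRec.LyG2.T2Data
import Cfsg.Agent.SporRec.LyG2.T3Data
import Cfsg.Agent.SporadicRecognition.CosetCertHyp

/-!
Relations 1–44 of the presentation of the Lyons group (a presentation of `G₂(5)`), for elements of an arbitrary group,
and their form as words in the letters of the coset certificates.
-/

set_option autoImplicit false
set_option linter.unusedSimpArgs false

namespace Cfsg.Agent.SporRec.LyG2.Rel

open Cfsg.Agent.SporadicRecognition.CosetCert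

/-- The relations 1–44 of the presentation of the Lyons group. -/
structure Rel44 {G : Type*} [Group G] (a b c d e c1 c2 c3 c4 c5 : G) : Prop where
  r1 : a ^ 8 = 1
  r2 : b ^ 5 = 1
  r3 : (a * b) ^ 4 = 1
  r4 : (a ^ 2)⁻¹ * b⁻¹ * (a ^ 2) * b = 1
  r5 : (a⁻¹ * b⁻¹ * a * b) ^ 3 = 1
  r6 : c1 * (c⁻¹) = 1
  r7 : c2 * ((a⁻¹ * c * a)⁻¹) = 1
  r8 : c3 * ((b⁻¹ * c * b)⁻¹) = 1
  r9 : c4 * (((b⁻¹)⁻¹ * c * (b⁻¹))⁻¹) = 1
  r10 : c5 * ((c1⁻¹ * c2⁻¹ * c1 * c2)⁻¹) = 1
  r11 : c1 ^ 5 = 1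
  r12 : c5 ^ 5 = 1
  r13 : c1⁻¹ * c5⁻¹ * c1 * c5 = 1
  r14 : c2⁻¹ * c5⁻¹ * c2 * c5 = 1
  r15 : c3⁻¹ * c5⁻¹ * c3 * c5 = 1
  r16 : c4⁻¹ * c5⁻¹ * c4 * c5 = 1
  r17 : (c1⁻¹ * c3⁻¹ * c1 * c3) * (((c5 ^ 2)⁻¹)⁻¹) = 1
  r18 : (c1⁻¹ * c4⁻¹ * c1 * c4) * ((c5 ^ 2)⁻¹) = 1
  r19 : (c2⁻¹ * c3⁻¹ * c2 * c3) * ((c5⁻¹)⁻¹) = 1
  r20 : c2⁻¹ * c4⁻¹ * c2 * c4 = 1
  r21 : (c3⁻¹ * c4⁻¹ * c3 * c4) * ((c5⁻¹)⁻¹) = 1
  r22 : (a⁻¹ * c2 * a) * (((c1 ^ 2)⁻¹)⁻¹) = 1
  r23 : (a⁻¹ * c3 * a) * ((((c3 ^ 2)⁻¹) * c1 * c4)⁻¹) = 1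
  r24 : (a⁻¹ * c4 * a) * ((c1 * (c2⁻¹) * (c3⁻¹) * c4 * c1 * c4)⁻¹) = 1
  r25 : (a⁻¹ * c5 * a) * ((c5 ^ 2)⁻¹) = 1
  r26 : (b⁻¹ * c2 * b) * ((c2 * c3 * (c4⁻¹) * (c1⁻¹) * (c4⁻¹))⁻¹) = 1
  r27 : (b⁻¹ * c3 * b) * (((c1 ^ 2) * c4 * ((c3 ^ 2)⁻¹))⁻¹) = 1
  r28 : (b⁻¹ * c5 * b) * (c5⁻¹) = 1
  r29 : e * ((((b ^ 2)⁻¹) * (a⁻¹ * c1⁻¹ * a * c1) * (a⁻¹) * c1 * a * d * c1 * b * a * (b⁻¹) * d * c1 * d)⁻¹) = 1
  r30 : e ^ 2 = 1
  r31 : (e⁻¹ * c1 * e) * ((b * c3 * b * (c1⁻¹))⁻¹) = 1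
  r32 : (e⁻¹ * c3 * e) * (((b ^ 2) * a * c2 * (c1⁻¹) * (c4⁻¹) * (a⁻¹))⁻¹) = 1
  r33 : (e⁻¹ * c4 * e) * (((b ^ 2) * (c3⁻¹) * c4)⁻¹) = 1
  r34 : (e⁻¹ * c5 * e) * ((c1 * (c3⁻¹) * c1 * (c4⁻¹))⁻¹) = 1
  r35 : (e * (a ^ 2) * e) * ((a * (b ^ 2) * a * (b⁻¹) * a * c1 * c5 * (c4⁻¹))⁻¹) = 1
  r36 : (e⁻¹ * b * e) * ((c1 * (c3⁻¹) * ((c4 ^ 2)⁻¹))⁻¹) = 1
  r37 : (e * a * (b ^ 2) * a * (b⁻¹) * a * e) * (((a ^ 2) * c1 * c5 * (c4⁻¹))⁻¹) = 1
  r38 : e * c2 * e * (c2⁻¹) * e * c2 * (c4⁻¹) * a * c3 * (a ^ 3) = 1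
  r39 : d * ((a * (b ^ 2) * (a⁻¹) * (b⁻¹) * (c1⁻¹) * (c4⁻¹) * (c5⁻¹) * a * e * a * e * a * (c2⁻¹) * b * e)⁻¹) = 1
  r40 : (d ^ 2) * ((a ^ 4)⁻¹) = 1
  r41 : b⁻¹ * d⁻¹ * b * d = 1
  r42 : (d⁻¹ * a * d) * ((a ^ 3)⁻¹) = 1
  r43 : (d * c5) ^ 5 = 1
  r44 : d * c5 * d * (c5⁻¹) * d * c5 * ((a ^ 2)⁻¹) = 1

theorem Rel44.map {G H : Type*} [Group G] [Group H] (φ : G →* H) {a b c d e c1 c2 c3 c4 c5 : G}
    (h : Rel44 a b c d e c1 c2 c3 c4 c5) :
    Rel44 (φ a) (φ b) (φ c) (φ d) (φ e) (φ c1) (φ c2) (φ c3) (φ c4) (φ c5) := by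
  constructor <;> simp only [← map_mul, ← map_inv, ← map_pow]
  all_goals first
    | rw [h.r1, map_one] | rw [h.r2, map_one] | rw [h.r3, map_one] | rw [h.r4, map_one] | rw [h.r5, map_one]
    | rw [h.r6, map_one] | rw [h.r7, map_one] | rw [h.r8, map_one] | rw [h.r9, map_one] | rw [h.r10, map_one]
    | rw [h.r11, map_one] | rw [h.r12, map_one] | rw [h.r13, map_one] | rw [h.r14, map_one] | rw [h.r15, map_one]
    | rw [h.r16, map_one] | rw [h.r17, map_one] | rw [h.r18, map_one] | rw [h.r19, map_one] | rw [h.r20, map_one]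
    | rw [h.r21, map_one] | rw [h.r22, map_one] | rw [h.r23, map_one] | rw [h.r24, map_one] | rw [h.r25, map_one]
    | rw [h.r26, map_one] | rw [h.r27, map_one] | rw [h.r28, map_one] | rw [h.r29, map_one] | rw [h.r30, map_one]
    | rw [h.r31, map_one] | rw [h.r32, map_one] | rw [h.r33, map_one] | rw [h.r34, map_one] | rw [h.r35, map_one]
    | rw [h.r36, map_one] | rw [h.r37, map_one] | rw [h.r38, map_one] | rw [h.r39, map_one] | rw [h.r40, map_one]
    | rw [h.r41, map_one] | rw [h.r42, map_one] | rw [h.r43, map_one] | rw [h.r44, map_one]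

/-- The letters of the certificate `T1`: `c4 c3 c5 c2 e b a c d` with inverses. -/
def col1 {G : Type*} [Group G] (a b c d e c2 c3 c4 c5 : G) : ℕ → G := fun n =>
  [c4, c4⁻¹, c3, c3⁻¹, c5, c5⁻¹, c2, c2⁻¹, e, b, b⁻¹, a, a⁻¹, c, c⁻¹, d, d⁻¹].getD n 1

theorem Rel44.c1_eq {G : Type*} [Group G] {a b c d e c1 c2 c3 c4 c5 : G}
    (h : Rel44 a b c d e c1 c2 c3 c4 c5) : c1 = c := mul_inv_eq_one.mp h.r6

theorem Rel44.e_inv {G : Type*} [Group G] {a b c d e c1 c2 c3 c4 c5 : G}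
    (h : Rel44 a b c d e c1 c2 c3 c4 c5) : e⁻¹ = e := by
  have h1 := h.r30
  rw [pow_two] at h1
  exact (eq_inv_of_mul_eq_one_left h1).symm

theorem Rel44.rels {G : Type*} [Group G] {a b c d e c1 c2 c3 c4 c5 : G}
    (h : Rel44 a b c d e c1 c2 c3 c4 c5) :
    ∀ r ∈ T1Data.rels, ev (col1 a b c d e c2 c3 c4 c5) r = 1 := by
  obtain rfl := h.c1_eq
  have he := h.e_inv
  unfold T1Data.rels
  simp only [List.forall_mem_cons, ev, col1, List.map_cons, List.map_nil, List.prod_cons, List.prod_nil,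
    List.getD_cons_zero, List.getD_cons_succ]
  refine ⟨?_, ?_, ?_, ?_, ?_, ?_, ?_, ?_, ?_, ?_, ?_, ?_, ?_, ?_, ?_, ?_, ?_, ?_, ?_, ?_, ?_, ?_, ?_, ?_, ?_, ?_, ?_, ?_, ?_, ?_, ?_, ?_, ?_, ?_, ?_, ?_, ?_, ?_, ?_, ?_, ?_, ?_, by simp⟩
  · have k := h.r7
    simp only [he, mul_one, one_mul, pow_succ, pow_zero, mul_inv_rev, inv_inv, mul_assoc, inv_mul_cancel_left,
      mul_inv_cancel_left] at k ⊢
    exact k
  · have k := h.r8
    simp only [he, mul_one, one_mul, pow_succ, pow_zero, mul_inv_rev, inv_inv, mul_assoc, inv_mul_cancel_left,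
      mul_inv_cancel_left] at k ⊢
    exact k
  · have k := h.r9
    simp only [he, mul_one, one_mul, pow_succ, pow_zero, mul_inv_rev, inv_inv, mul_assoc, inv_mul_cancel_left,
      mul_inv_cancel_left] at k ⊢
    exact k
  · have k := h.r13
    simp only [he, mul_one, one_mul, pow_succ, pow_zero, mul_inv_rev, inv_inv, mul_assoc, inv_mul_cancel_left,
      mul_inv_cancel_left] at k ⊢
    exact k
  · have k := h.r14
    simp only [he, mul_one, one_mul, pow_succ, pow_zero, mul_inv_rev, inv_inv, mul_assoc, inv_mul_cancel_left,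
      mul_inv_cancel_left] at k ⊢
    exact k
  · have k := h.r15
    simp only [he, mul_one, one_mul, pow_succ, pow_zero, mul_inv_rev, inv_inv, mul_assoc, inv_mul_cancel_left,
      mul_inv_cancel_left] at k ⊢
    exact k
  · have k := h.r16
    simp only [he, mul_one, one_mul, pow_succ, pow_zero, mul_inv_rev, inv_inv, mul_assoc, inv_mul_cancel_left,
      mul_inv_cancel_left] at k ⊢
    exact k
  · have k := h.r20
    simp only [he, mul_one, one_mul, pow_succ, pow_zero, mul_inv_rev, inv_inv, mul_assoc, inv_mul_cancel_left,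
      mul_inv_cancel_left] at k ⊢
    exact k
  · have k := h.r28
    simp only [he, mul_one, one_mul, pow_succ, pow_zero, mul_inv_rev, inv_inv, mul_assoc, inv_mul_cancel_left,
      mul_inv_cancel_left] at k ⊢
    exact k
  · have k := h.r41
    simp only [he, mul_one, one_mul, pow_succ, pow_zero, mul_inv_rev, inv_inv, mul_assoc, inv_mul_cancel_left,
      mul_inv_cancel_left] at k ⊢
    exact k
  · have k := h.r2
    simp only [he, mul_one, one_mul, pow_succ, pow_zero, mul_inv_rev, inv_inv, mul_assoc, inv_mul_cancel_left,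
      mul_inv_cancel_left] at k ⊢
    exact k
  · have k := h.r10
    simp only [he, mul_one, one_mul, pow_succ, pow_zero, mul_inv_rev, inv_inv, mul_assoc, inv_mul_cancel_left,
      mul_inv_cancel_left] at k ⊢
    exact k
  · have k := h.r11
    simp only [he, mul_one, one_mul, pow_succ, pow_zero, mul_inv_rev, inv_inv, mul_assoc, inv_mul_cancel_left,
      mul_inv_cancel_left] at k ⊢
    exact k
  · have k := h.r12
    simp only [he, mul_one, one_mul, pow_succ, pow_zero, mul_inv_rev, inv_inv, mul_assoc, inv_mul_cancel_left,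
      mul_inv_cancel_left] at k ⊢
    exact k
  · have k := h.r19
    simp only [he, mul_one, one_mul, pow_succ, pow_zero, mul_inv_rev, inv_inv, mul_assoc, inv_mul_cancel_left,
      mul_inv_cancel_left] at k ⊢
    exact k
  · have k := h.r21
    simp only [he, mul_one, one_mul, pow_succ, pow_zero, mul_inv_rev, inv_inv, mul_assoc, inv_mul_cancel_left,
      mul_inv_cancel_left] at k ⊢
    exact k
  · have k := h.r22
    simp only [he, mul_one, one_mul, pow_succ, pow_zero, mul_inv_rev, inv_inv, mul_assoc, inv_mul_cancel_left,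
      mul_inv_cancel_left] at k ⊢
    exact k
  · have k := h.r25
    simp only [he, mul_one, one_mul, pow_succ, pow_zero, mul_inv_rev, inv_inv, mul_assoc, inv_mul_cancel_left,
      mul_inv_cancel_left] at k ⊢
    exact k
  · have k := h.r4
    simp only [he, mul_one, one_mul, pow_succ, pow_zero, mul_inv_rev, inv_inv, mul_assoc, inv_mul_cancel_left,
      mul_inv_cancel_left] at k ⊢
    exact k
  · have k := h.r17
    simp only [he, mul_one, one_mul, pow_succ, pow_zero, mul_inv_rev, inv_inv, mul_assoc, inv_mul_cancel_left,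
      mul_inv_cancel_left] at k ⊢
    exact k
  · have k := h.r18
    simp only [he, mul_one, one_mul, pow_succ, pow_zero, mul_inv_rev, inv_inv, mul_assoc, inv_mul_cancel_left,
      mul_inv_cancel_left] at k ⊢
    exact k
  · have k := h.r40
    simp only [he, mul_one, one_mul, pow_succ, pow_zero, mul_inv_rev, inv_inv, mul_assoc, inv_mul_cancel_left,
      mul_inv_cancel_left] at k ⊢
    exact k
  · have k := h.r42
    simp only [he, mul_one, one_mul, pow_succ, pow_zero, mul_inv_rev, inv_inv, mul_assoc, inv_mul_cancel_left,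
      mul_inv_cancel_left] at k ⊢
    exact k
  · have k := h.r23
    simp only [he, mul_one, one_mul, pow_succ, pow_zero, mul_inv_rev, inv_inv, mul_assoc, inv_mul_cancel_left,
      mul_inv_cancel_left] at k ⊢
    exact k
  · have k := h.r31
    simp only [he, mul_one, one_mul, pow_succ, pow_zero, mul_inv_rev, inv_inv, mul_assoc, inv_mul_cancel_left,
      mul_inv_cancel_left] at k ⊢
    exact k
  · have k := h.r33
    simp only [he, mul_one, one_mul, pow_succ, pow_zero, mul_inv_rev, inv_inv, mul_assoc, inv_mul_cancel_left,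
      mul_inv_cancel_left] at k ⊢
    exact k
  · have k := h.r34
    simp only [he, mul_one, one_mul, pow_succ, pow_zero, mul_inv_rev, inv_inv, mul_assoc, inv_mul_cancel_left,
      mul_inv_cancel_left] at k ⊢
    exact k
  · have k := h.r36
    simp only [he, mul_one, one_mul, pow_succ, pow_zero, mul_inv_rev, inv_inv, mul_assoc, inv_mul_cancel_left,
      mul_inv_cancel_left] at k ⊢
    exact k
  · have k := h.r1
    simp only [he, mul_one, one_mul, pow_succ, pow_zero, mul_inv_rev, inv_inv, mul_assoc, inv_mul_cancel_left,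
      mul_inv_cancel_left] at k ⊢
    exact k
  · have k := h.r3
    simp only [he, mul_one, one_mul, pow_succ, pow_zero, mul_inv_rev, inv_inv, mul_assoc, inv_mul_cancel_left,
      mul_inv_cancel_left] at k ⊢
    exact k
  · have k := h.r26
    simp only [he, mul_one, one_mul, pow_succ, pow_zero, mul_inv_rev, inv_inv, mul_assoc, inv_mul_cancel_left,
      mul_inv_cancel_left] at k ⊢
    exact k
  · have k := h.r27
    simp only [he, mul_one, one_mul, pow_succ, pow_zero, mul_inv_rev, inv_inv, mul_assoc, inv_mul_cancel_left,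
      mul_inv_cancel_left] at k ⊢
    exact k
  · have k := h.r44
    simp only [he, mul_one, one_mul, pow_succ, pow_zero, mul_inv_rev, inv_inv, mul_assoc, inv_mul_cancel_left,
      mul_inv_cancel_left] at k ⊢
    exact k
  · have k := h.r24
    simp only [he, mul_one, one_mul, pow_succ, pow_zero, mul_inv_rev, inv_inv, mul_assoc, inv_mul_cancel_left,
      mul_inv_cancel_left] at k ⊢
    exact k
  · have k := h.r32
    simp only [he, mul_one, one_mul, pow_succ, pow_zero, mul_inv_rev, inv_inv, mul_assoc, inv_mul_cancel_left,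
      mul_inv_cancel_left] at k ⊢
    exact k
  · have k := h.r43
    simp only [he, mul_one, one_mul, pow_succ, pow_zero, mul_inv_rev, inv_inv, mul_assoc, inv_mul_cancel_left,
      mul_inv_cancel_left] at k ⊢
    exact k
  · have k := h.r5
    simp only [he, mul_one, one_mul, pow_succ, pow_zero, mul_inv_rev, inv_inv, mul_assoc, inv_mul_cancel_left,
      mul_inv_cancel_left] at k ⊢
    exact k
  · have k := h.r38
    simp only [he, mul_one, one_mul, pow_succ, pow_zero, mul_inv_rev, inv_inv, mul_assoc, inv_mul_cancel_left,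
      mul_inv_cancel_left] at k ⊢
    exact k
  · have k := h.r35
    simp only [he, mul_one, one_mul, pow_succ, pow_zero, mul_inv_rev, inv_inv, mul_assoc, inv_mul_cancel_left,
      mul_inv_cancel_left] at k ⊢
    exact k
  · have k := h.r37
    simp only [he, mul_one, one_mul, pow_succ, pow_zero, mul_inv_rev, inv_inv, mul_assoc, inv_mul_cancel_left,
      mul_inv_cancel_left] at k ⊢
    exact k
  · have k := h.r39
    simp only [he, mul_one, one_mul, pow_succ, pow_zero, mul_inv_rev, inv_inv, mul_assoc, inv_mul_cancel_left,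
      mul_inv_cancel_left] at k ⊢
    exact k
  · have k := h.r29
    simp only [he, mul_one, one_mul, pow_succ, pow_zero, mul_inv_rev, inv_inv, mul_assoc, inv_mul_cancel_left,
      mul_inv_cancel_left] at k ⊢
    exact k

/-- Relations 1–44 as certificate words. -/
structure Holds {G : Type*} [Group G] (a b c d e c2 c3 c4 c5 : G) : Prop where
  rel : ∀ r ∈ T1Data.rels, ev (col1 a b c d e c2 c3 c4 c5) r = 1
  ee : e * e = 1

theorem Rel44.holds {G : Type*} [Group G] {a b c d e c1 c2 c3 c4 c5 : G}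
    (h : Rel44 a b c d e c1 c2 c3 c4 c5) : Holds a b c d e c2 c3 c4 c5 :=
  ⟨h.rels, by have := h.r30; rwa [pow_two] at this⟩

end Cfsg.Agent.SporRec.LyG2.Rel
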