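import Cfsg.Agent.SporRec.LyG2.Rel

/-!
The certificate words give back the relations 1–44.
-/

set_option autoImplicit false
set_option linter.unusedSimpArgs false

namespace Cfsg.Agent.SporRec.LyG2.RelBack

open Cfsg.Agent.SporadicRecognition.CosetCert
open Cfsg.Agent.SporRec.LyG2.Rel

variable {G : Type*} [Group G] {a b c d e c2 c3 c4 c5 : G}

/-- certificate words give the relations -/
theorem of_holds (h : Holds a b c d e c2 c3 c4 c5) : Rel44 a b c d e c c2 c3 c4 c5 := by
  have hee := h.ee
  have he : e⁻¹ = e := inv_eq_of_mul_eq_one_left hee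
  have h := h.rel
  unfold T1Data.rels at h
  simp only [List.forall_mem_cons, ev, col1, List.map_cons, List.map_nil, List.prod_cons, List.prod_nil,
    List.getD_cons_zero, List.getD_cons_succ] at h
  obtain ⟨k7, k8, k9, k13, k14, k15, k16, k20, k28, k41, k2, k10, k11, k12, k19, k21, k22, k25, k4, k17, k18, k40, k42, k23, k31, k33, k34, k36, k1, k3, k26, k27, k44, k24, k32, k43, k5, k38, k35, k37, k39, k29, -⟩ := h
  constructor
  · simp only [he, mul_one, one_mul, pow_succ, pow_zero, mul_inv_rev, inv_inv, mul_assoc, inv_mul_cancel_left,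
      mul_inv_cancel_left] at k1 ⊢
    exact k1
  · simp only [he, mul_one, one_mul, pow_succ, pow_zero, mul_inv_rev, inv_inv, mul_assoc, inv_mul_cancel_left,
      mul_inv_cancel_left] at k2 ⊢
    exact k2
  · simp only [he, mul_one, one_mul, pow_succ, pow_zero, mul_inv_rev, inv_inv, mul_assoc, inv_mul_cancel_left,
      mul_inv_cancel_left] at k3 ⊢
    exact k3
  · simp only [he, mul_one, one_mul, pow_succ, pow_zero, mul_inv_rev, inv_inv, mul_assoc, inv_mul_cancel_left,
      mul_inv_cancel_left] at k4 ⊢
    exact k4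
  · simp only [he, mul_one, one_mul, pow_succ, pow_zero, mul_inv_rev, inv_inv, mul_assoc, inv_mul_cancel_left,
      mul_inv_cancel_left] at k5 ⊢
    exact k5
  · exact mul_inv_cancel c
  · simp only [he, mul_one, one_mul, pow_succ, pow_zero, mul_inv_rev, inv_inv, mul_assoc, inv_mul_cancel_left,
      mul_inv_cancel_left] at k7 ⊢
    exact k7
  · simp only [he, mul_one, one_mul, pow_succ, pow_zero, mul_inv_rev, inv_inv, mul_assoc, inv_mul_cancel_left,
      mul_inv_cancel_left] at k8 ⊢
    exact k8
  · simp only [he, mul_one, one_mul, pow_succ, pow_zero, mul_inv_rev, inv_inv, mul_assoc, inv_mul_cancel_left,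
      mul_inv_cancel_left] at k9 ⊢
    exact k9
  · simp only [he, mul_one, one_mul, pow_succ, pow_zero, mul_inv_rev, inv_inv, mul_assoc, inv_mul_cancel_left,
      mul_inv_cancel_left] at k10 ⊢
    exact k10
  · simp only [he, mul_one, one_mul, pow_succ, pow_zero, mul_inv_rev, inv_inv, mul_assoc, inv_mul_cancel_left,
      mul_inv_cancel_left] at k11 ⊢
    exact k11
  · simp only [he, mul_one, one_mul, pow_succ, pow_zero, mul_inv_rev, inv_inv, mul_assoc, inv_mul_cancel_left,
      mul_inv_cancel_left] at k12 ⊢
    exact k12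
  · simp only [he, mul_one, one_mul, pow_succ, pow_zero, mul_inv_rev, inv_inv, mul_assoc, inv_mul_cancel_left,
      mul_inv_cancel_left] at k13 ⊢
    exact k13
  · simp only [he, mul_one, one_mul, pow_succ, pow_zero, mul_inv_rev, inv_inv, mul_assoc, inv_mul_cancel_left,
      mul_inv_cancel_left] at k14 ⊢
    exact k14
  · simp only [he, mul_one, one_mul, pow_succ, pow_zero, mul_inv_rev, inv_inv, mul_assoc, inv_mul_cancel_left,
      mul_inv_cancel_left] at k15 ⊢
    exact k15
  · simp only [he, mul_one, one_mul, pow_succ, pow_zero, mul_inv_rev, inv_inv, mul_assoc, inv_mul_cancel_left,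
      mul_inv_cancel_left] at k16 ⊢
    exact k16
  · simp only [he, mul_one, one_mul, pow_succ, pow_zero, mul_inv_rev, inv_inv, mul_assoc, inv_mul_cancel_left,
      mul_inv_cancel_left] at k17 ⊢
    exact k17
  · simp only [he, mul_one, one_mul, pow_succ, pow_zero, mul_inv_rev, inv_inv, mul_assoc, inv_mul_cancel_left,
      mul_inv_cancel_left] at k18 ⊢
    exact k18
  · simp only [he, mul_one, one_mul, pow_succ, pow_zero, mul_inv_rev, inv_inv, mul_assoc, inv_mul_cancel_left,
      mul_inv_cancel_left] at k19 ⊢
    exact k19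
  · simp only [he, mul_one, one_mul, pow_succ, pow_zero, mul_inv_rev, inv_inv, mul_assoc, inv_mul_cancel_left,
      mul_inv_cancel_left] at k20 ⊢
    exact k20
  · simp only [he, mul_one, one_mul, pow_succ, pow_zero, mul_inv_rev, inv_inv, mul_assoc, inv_mul_cancel_left,
      mul_inv_cancel_left] at k21 ⊢
    exact k21
  · simp only [he, mul_one, one_mul, pow_succ, pow_zero, mul_inv_rev, inv_inv, mul_assoc, inv_mul_cancel_left,
      mul_inv_cancel_left] at k22 ⊢
    exact k22
  · simp only [he, mul_one, one_mul, pow_succ, pow_zero, mul_inv_rev, inv_inv, mul_assoc, inv_mul_cancel_left,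
      mul_inv_cancel_left] at k23 ⊢
    exact k23
  · simp only [he, mul_one, one_mul, pow_succ, pow_zero, mul_inv_rev, inv_inv, mul_assoc, inv_mul_cancel_left,
      mul_inv_cancel_left] at k24 ⊢
    exact k24
  · simp only [he, mul_one, one_mul, pow_succ, pow_zero, mul_inv_rev, inv_inv, mul_assoc, inv_mul_cancel_left,
      mul_inv_cancel_left] at k25 ⊢
    exact k25
  · simp only [he, mul_one, one_mul, pow_succ, pow_zero, mul_inv_rev, inv_inv, mul_assoc, inv_mul_cancel_left,
      mul_inv_cancel_left] at k26 ⊢
    exact k26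
  · simp only [he, mul_one, one_mul, pow_succ, pow_zero, mul_inv_rev, inv_inv, mul_assoc, inv_mul_cancel_left,
      mul_inv_cancel_left] at k27 ⊢
    exact k27
  · simp only [he, mul_one, one_mul, pow_succ, pow_zero, mul_inv_rev, inv_inv, mul_assoc, inv_mul_cancel_left,
      mul_inv_cancel_left] at k28 ⊢
    exact k28
  · simp only [he, mul_one, one_mul, pow_succ, pow_zero, mul_inv_rev, inv_inv, mul_assoc, inv_mul_cancel_left,
      mul_inv_cancel_left] at k29 ⊢
    exact k29
  · rw [pow_two]; exact hee
  · simp only [he, mul_one, one_mul, pow_succ, pow_zero, mul_inv_rev, inv_inv, mul_assoc, inv_mul_cancel_left,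
      mul_inv_cancel_left] at k31 ⊢
    exact k31
  · simp only [he, mul_one, one_mul, pow_succ, pow_zero, mul_inv_rev, inv_inv, mul_assoc, inv_mul_cancel_left,
      mul_inv_cancel_left] at k32 ⊢
    exact k32
  · simp only [he, mul_one, one_mul, pow_succ, pow_zero, mul_inv_rev, inv_inv, mul_assoc, inv_mul_cancel_left,
      mul_inv_cancel_left] at k33 ⊢
    exact k33
  · simp only [he, mul_one, one_mul, pow_succ, pow_zero, mul_inv_rev, inv_inv, mul_assoc, inv_mul_cancel_left,
      mul_inv_cancel_left] at k34 ⊢
    exact k34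
  · simp only [he, mul_one, one_mul, pow_succ, pow_zero, mul_inv_rev, inv_inv, mul_assoc, inv_mul_cancel_left,
      mul_inv_cancel_left] at k35 ⊢
    exact k35
  · simp only [he, mul_one, one_mul, pow_succ, pow_zero, mul_inv_rev, inv_inv, mul_assoc, inv_mul_cancel_left,
      mul_inv_cancel_left] at k36 ⊢
    exact k36
  · simp only [he, mul_one, one_mul, pow_succ, pow_zero, mul_inv_rev, inv_inv, mul_assoc, inv_mul_cancel_left,
      mul_inv_cancel_left] at k37 ⊢
    exact k37
  · simp only [he, mul_one, one_mul, pow_succ, pow_zero, mul_inv_rev, inv_inv, mul_assoc, inv_mul_cancel_left,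
      mul_inv_cancel_left] at k38 ⊢
    exact k38
  · simp only [he, mul_one, one_mul, pow_succ, pow_zero, mul_inv_rev, inv_inv, mul_assoc, inv_mul_cancel_left,
      mul_inv_cancel_left] at k39 ⊢
    exact k39
  · simp only [he, mul_one, one_mul, pow_succ, pow_zero, mul_inv_rev, inv_inv, mul_assoc, inv_mul_cancel_left,
      mul_inv_cancel_left] at k40 ⊢
    exact k40
  · simp only [he, mul_one, one_mul, pow_succ, pow_zero, mul_inv_rev, inv_inv, mul_assoc, inv_mul_cancel_left,
      mul_inv_cancel_left] at k41 ⊢
    exact k41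
  · simp only [he, mul_one, one_mul, pow_succ, pow_zero, mul_inv_rev, inv_inv, mul_assoc, inv_mul_cancel_left,
      mul_inv_cancel_left] at k42 ⊢
    exact k42
  · simp only [he, mul_one, one_mul, pow_succ, pow_zero, mul_inv_rev, inv_inv, mul_assoc, inv_mul_cancel_left,
      mul_inv_cancel_left] at k43 ⊢
    exact k43
  · simp only [he, mul_one, one_mul, pow_succ, pow_zero, mul_inv_rev, inv_inv, mul_assoc, inv_mul_cancel_left,
      mul_inv_cancel_left] at k44 ⊢
    exact k44

end Cfsg.Agent.SporRec.LyG2.RelBack
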