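import Cfsg.Agent.SporRec.LyG2.T3Data

set_option autoImplicit false
set_option maxRecDepth 100000

namespace Cfsg.Agent.SporRec.LyG2.T3Chk0

open Cfsg.Agent.SporadicRecognition.CosetCert Cfsg.Agent.SporRec.LyG2.T3Data

theorem c0 : Part C 0 64 60 := runChunk_sound C 60 (by decide +kernel : runChunk C 10 1023 0x40218c0230c01008020080200402008e3004020040220c3330c0200402008e30040200801000000042304c02e138400402000000040024c010080230c0100843004e300802000010000000423008020080118c730042304c0200000004000040214ca3008020040200801008430071400c020080104c0200423008330080120cb300402008330080104c020042300c020080200402008020040200802004020080120c0200402008020080104c0224c02004020042300c02008020040200801008430040214c0200802004020080118c730040200c020080104c020042300c0200802004020080104c0200402008330080104c0200802004020042300c02008020040200801008430040200c0200802004020080104c0200402008330080104c0200802004020042300c0200802004020080104c020040200c020080200805 9 511 0xf3000020c0000001ac00000020c00000000000000000000000000000000000000000000000000000000000000000000000000000000000000000000000000000 0 64 = 61)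

theorem all : Part C 0 64 60 := c0

end Cfsg.Agent.SporRec.LyG2.T3Chk0
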